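import Mathlib
import Cfsg.Agent.Helper1.Basic

set_option autoImplicit false

namespace Cfsg.Agent.Helper21

open MulAction
open scoped Pointwise

theorem dvd_card_of_forall_dvd_index_stabilizer {G X : Type*} [Group G] [MulAction G X] [Finite G]
    [Finite X] (d : ℕ) (h : ∀ x : X, d ∣ (stabilizer G x).index) : d ∣ Nat.card X := by
  classical
  haveI : Fintype (Quotient (orbitRel G X)) := Fintype.ofFinite _
  have e := MulAction.selfEquivSigmaOrbitsQuotientStabilizer G X
  rw [Nat.card_congr e, Nat.card_sigma]
  apply Finset.dvd_sum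
  intro ω _
  rw [← Subgroup.index_eq_card]
  exact h _

theorem card_dvd_card_of_mul_mem {G : Type*} [Group G] [Finite G] (H : Subgroup G) (S : Finset G)
    (hS : ∀ h ∈ H, ∀ x ∈ S, h * x ∈ S) : Nat.card H ∣ S.card := by
  classical
  letI : MulAction H {x // x ∈ S} :=
    { smul := fun h x => ⟨h.1 * x.1, hS h.1 h.2 x.1 x.2⟩
      one_smul := fun x => Subtype.ext (one_mul _)
      mul_smul := fun a b x => Subtype.ext (mul_assoc _ _ _) }
  have hA : Nat.card {x // x ∈ S} = S.card := by
    rw [Nat.card_eq_fintype_card, Fintype.card_coe]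
  rw [← hA]
  have key : ∀ x : {x // x ∈ S}, Nat.card H ∣ (stabilizer H x).index := by
    intro x
    have hb : stabilizer H x = ⊥ := by
      rw [eq_bot_iff]
      intro h hh
      rw [mem_stabilizer_iff] at hh
      have h1 : (h : G) * x.1 = x.1 := congrArg Subtype.val hh
      rw [Subgroup.mem_bot]
      apply Subtype.ext
      rw [Subgroup.coe_one]
      exact mul_eq_right.1 h1
    rw [hb, Subgroup.index_bot]
  exact dvd_card_of_forall_dvd_index_stabilizer _ key

/-- The left coset `x K` as a finset. -/
noncomputable def cosetFinset {G : Type*} [Group G] [Finite G] (K : Subgroup G) (x : G) : Finset G :=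
  (Set.toFinite {y : G | x⁻¹ * y ∈ K}).toFinset

theorem mem_cosetFinset {G : Type*} [Group G] [Finite G] {K : Subgroup G} {x y : G} :
    y ∈ cosetFinset K x ↔ x⁻¹ * y ∈ K := by
  unfold cosetFinset
  rw [Set.Finite.mem_toFinset]
  rfl

theorem smul_cosetFinset {G : Type*} [Group G] [Finite G] [DecidableEq G] (K : Subgroup G)
    (g x : G) : g • cosetFinset K x = cosetFinset K (g * x) := by
  ext y
  rw [← Finset.inv_smul_mem_iff, mem_cosetFinset, mem_cosetFinset, smul_eq_mul, mul_inv_rev,
    mul_assoc]

theorem card_cosetFinset {G : Type*} [Group G] [Finite G] (K : Subgroup G) (x : G) :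
    (cosetFinset K x).card = Nat.card K := by
  classical
  have h1 : Nat.card {y // y ∈ cosetFinset K x} = (cosetFinset K x).card := by
    rw [Nat.card_eq_fintype_card, Fintype.card_coe]
  rw [← h1]
  apply Nat.card_congr
  exact
    { toFun := fun y => ⟨x⁻¹ * y.1, mem_cosetFinset.1 y.2⟩
      invFun := fun k => ⟨x * k.1, mem_cosetFinset.2 (by rw [inv_mul_cancel_left]; exact k.2)⟩
      left_inv := fun y => Subtype.ext (mul_inv_cancel_left _ _)
      right_inv := fun k => Subtype.ext (inv_mul_cancel_left _ _) }

theorem cosetFinset_eq_of_mem {G : Type*} [Group G] [Finite G] {K : Subgroup G} {x y : G}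
    (h : x⁻¹ * y ∈ K) : cosetFinset K y = cosetFinset K x := by
  ext z
  rw [mem_cosetFinset, mem_cosetFinset]
  have h1 : x⁻¹ * z = (x⁻¹ * y) * (y⁻¹ * z) := by group
  rw [h1, Subgroup.mul_mem_cancel_left K h]

theorem subgroup_eq_of_cosetFinset_eq {G : Type*} [Group G] [Finite G] {K K' : Subgroup G}
    {x x' : G} (h : cosetFinset K x = cosetFinset K' x') : K = K' := by
  have hz : ∀ z, x⁻¹ * z ∈ K ↔ x'⁻¹ * z ∈ K' := by
    intro z
    rw [← mem_cosetFinset, ← mem_cosetFinset, h]
  have h1 : x'⁻¹ * x ∈ K' := (hz x).1 (by rw [inv_mul_cancel]; exact K.one_mem)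
  ext k
  have h2 := hz (x * k)
  rw [inv_mul_cancel_left, ← mul_assoc, Subgroup.mul_mem_cancel_left K' h1] at h2
  exact h2

/-- Wielandt's counting congruence. -/
theorem choose_modEq_card_subgroups {G : Type*} [Group G] [Finite G] (p β t : ℕ) (hp : p.Prime)
    (hn : Nat.card G = p ^ β * t) :
    (Nat.card G).choose (p ^ β) ≡
      Nat.card {K : Subgroup G // Nat.card K = p ^ β} * t [MOD p * t] := by
  classical
  haveI : Fintype G := Fintype.ofFinite G
  haveI : Fintype {K : Subgroup G // Nat.card K = p ^ β} := Fintype.ofFinite _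
  have hqpos : 0 < p ^ β := pow_pos hp.pos β
  let Good : Finset G → Prop := fun S =>
    ∃ K : Subgroup G, Nat.card K = p ^ β ∧ ∃ x : G, S = cosetFinset K x
  let P : Finset (Finset G) := (Finset.univ : Finset G).powersetCard (p ^ β)
  have hP : P.card = (Nat.card G).choose (p ^ β) := by
    rw [Finset.card_powersetCard, Finset.card_univ, Nat.card_eq_fintype_card]
  have hsplit : (P.filter Good).card + (P.filter (fun S => ¬ Good S)).card = P.card :=
    Finset.card_filter_add_card_filter_not (s := P) Good
  have hbad : p * t ∣ (P.filter (fun S => ¬ Good S)).card := by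
    have hBmem : ∀ S, S ∈ P.filter (fun S => ¬ Good S) ↔ S.card = p ^ β ∧ ¬ Good S := by
      intro S
      simp only [P, Finset.mem_filter, Finset.mem_powersetCard, Finset.subset_univ, true_and]
    have hGoodsmul : ∀ (g : G) (S : Finset G), Good S → Good (g • S) := by
      rintro g S ⟨K, hK, x, hx⟩
      exact ⟨K, hK, g * x, by rw [hx, smul_cosetFinset]⟩
    letI : MulAction G {S // S ∈ P.filter (fun S => ¬ Good S)} :=
      { smul := fun g S => ⟨g • S.1, by
          rw [hBmem]
          have h := (hBmem S.1).1 S.2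
          refine ⟨by rw [Finset.card_smul_finset]; exact h.1, fun hg => h.2 ?_⟩
          have h' := hGoodsmul g⁻¹ _ hg
          rwa [inv_smul_smul] at h'⟩
        one_smul := fun S => Subtype.ext (one_smul G S.1)
        mul_smul := fun a b S => Subtype.ext (mul_smul a b S.1) }
    have hcard : Nat.card {S // S ∈ P.filter (fun S => ¬ Good S)} =
        (P.filter (fun S => ¬ Good S)).card := by
      rw [Nat.card_eq_fintype_card, Fintype.card_coe]
    rw [← hcard]
    refine dvd_card_of_forall_dvd_index_stabilizer (G := G)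
      (X := {S // S ∈ P.filter (fun S => ¬ Good S)}) _ ?_
    intro S
    obtain ⟨hSc, hSb⟩ := (hBmem S.1).1 S.2
    have hHS : ∀ h ∈ stabilizer G S, ∀ x ∈ S.1, h * x ∈ S.1 := by
      intro h hh x hx
      have h1 : h • S = S := hh
      have h2 : h • S.1 = S.1 := congrArg Subtype.val h1
      have h3 : h • x ∈ h • S.1 := Finset.smul_mem_smul_finset hx
      rw [h2] at h3
      exact h3
    have hdvd : Nat.card (stabilizer G S) ∣ p ^ β := by
      have h4 := card_dvd_card_of_mul_mem (stabilizer G S) S.1 hHS
      rwa [hSc] at h4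
    obtain ⟨k, hk, hHk⟩ := (Nat.dvd_prime_pow hp).1 hdvd
    have hidx : (stabilizer G S).index * p ^ k = p ^ β * t := by
      rw [← hn, ← hHk]; exact (stabilizer G S).index_mul_card
    rcases Nat.lt_or_ge k β with hlt | hge
    · have hβ : β = (β - k - 1) + 1 + k := by omega
      have h5 : (stabilizer G S).index * p ^ k = p ^ (β - k - 1) * p * t * p ^ k := by
        rw [hidx]
        conv_lhs => rw [hβ]
        rw [pow_add, pow_succ]
        ring
      have h6 : (stabilizer G S).index = p ^ (β - k - 1) * p * t :=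
        Nat.eq_of_mul_eq_mul_right (pow_pos hp.pos k) h5
      rw [h6]
      exact ⟨p ^ (β - k - 1), by ring⟩
    · exfalso
      have hkβ : k = β := le_antisymm hk hge
      rw [hkβ] at hHk
      have hne : S.1.Nonempty := by
        rw [← Finset.card_pos, hSc]; exact hqpos
      obtain ⟨x₀, hx₀⟩ := hne
      apply hSb
      have hKc : Nat.card ((stabilizer G S).map (MulAut.conj x₀⁻¹).toMonoidHom) = p ^ β := by
        rw [Subgroup.card_map_of_injective (MulAut.conj x₀⁻¹).injective]
        exact hHk
      refine ⟨(stabilizer G S).map (MulAut.conj x₀⁻¹).toMonoidHom, hKc, x₀, ?_⟩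
      symm
      apply Finset.eq_of_subset_of_card_le
      · intro y hy
        rw [mem_cosetFinset] at hy
        obtain ⟨h, hh, hy'⟩ := Subgroup.mem_map.1 hy
        have h3 : x₀⁻¹ * h * x₀⁻¹⁻¹ = x₀⁻¹ * y := hy'
        rw [inv_inv, mul_assoc] at h3
        have h4 : y = h * x₀ := (mul_left_cancel h3).symm
        rw [h4]
        exact hHS h hh x₀ hx₀
      · rw [card_cosetFinset, hKc, hSc]
  have hgood : (P.filter Good).card =
      Nat.card {K : Subgroup G // Nat.card K = p ^ β} * t := by
    have hGmem : ∀ S, S ∈ P.filter Good ↔ Good S := by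
      intro S
      simp only [P, Finset.mem_filter, Finset.mem_powersetCard, Finset.subset_univ, true_and]
      constructor
      · exact fun h => h.2
      · intro h
        refine ⟨?_, h⟩
        obtain ⟨K, hK, x, hx⟩ := h
        rw [hx, card_cosetFinset, hK]
    have hcard : Nat.card {S // S ∈ P.filter Good} = (P.filter Good).card := by
      rw [Nat.card_eq_fintype_card, Fintype.card_coe]
    rw [← hcard]
    let F : (Σ K : {K : Subgroup G // Nat.card K = p ^ β}, G ⧸ K.1) →
        {S // S ∈ P.filter Good} :=
      fun s => ⟨cosetFinset s.1.1 (Quotient.out s.2), (hGmem _).2 ⟨s.1.1, s.1.2, _, rfl⟩⟩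
    have hF : Function.Bijective F := by
      constructor
      · rintro ⟨⟨K, hK⟩, a⟩ ⟨⟨K', hK'⟩, a'⟩ h
        have h1 : cosetFinset K (Quotient.out a) = cosetFinset K' (Quotient.out a') :=
          congrArg Subtype.val h
        have hKK : K = K' := subgroup_eq_of_cosetFinset_eq h1
        subst hKK
        have ha : a = a' := by
          have h2 : Quotient.out a ∈ cosetFinset K (Quotient.out a') := by
            rw [← h1, mem_cosetFinset, inv_mul_cancel]; exact K.one_mem
          rw [mem_cosetFinset] at h2
          have h3 : (QuotientGroup.mk (Quotient.out a') : G ⧸ K) =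
              QuotientGroup.mk (Quotient.out a) := QuotientGroup.eq.2 h2
          rw [QuotientGroup.out_eq', QuotientGroup.out_eq'] at h3
          exact h3.symm
        subst ha
        rfl
      · rintro ⟨S, hS⟩
        obtain ⟨K, hK, x, hx⟩ := (hGmem S).1 hS
        refine ⟨⟨⟨K, hK⟩, QuotientGroup.mk x⟩, Subtype.ext ?_⟩
        show cosetFinset K (Quotient.out (QuotientGroup.mk x : G ⧸ K)) = S
        rw [hx]
        apply cosetFinset_eq_of_mem
        obtain ⟨h, hh⟩ := QuotientGroup.mk_out_eq_mul K x
        rw [hh, inv_mul_cancel_left]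
        exact h.2
    rw [← Nat.card_eq_of_bijective F hF, Nat.card_sigma]
    have hidx : ∀ K : {K : Subgroup G // Nat.card K = p ^ β}, Nat.card (G ⧸ K.1) = t := by
      intro K
      have h1 := K.1.index_mul_card
      rw [hn, K.2, Subgroup.index_eq_card] at h1
      have h1' : Nat.card (G ⧸ K.1) * p ^ β = t * p ^ β := by rw [h1, mul_comm]
      exact Nat.eq_of_mul_eq_mul_right hqpos h1'
    rw [Finset.sum_congr rfl (fun K _ => hidx K), Finset.sum_const, Finset.card_univ,
      smul_eq_mul, Nat.card_eq_fintype_card]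
  rw [← hP, ← hsplit, hgood]
  obtain ⟨c, hc⟩ := hbad
  rw [hc]
  unfold Nat.ModEq
  rw [Nat.add_mul_mod_self_left]

theorem cyclic_card_subgroups_eq_one {C : Type*} [Group C] [Finite C] [IsCyclic C] (p β : ℕ)
    (hp : p.Prime) (hdvd : p ^ β ∣ Nat.card C) :
    Nat.card {K : Subgroup C // Nat.card K = p ^ β} = 1 := by
  classical
  haveI : Fintype C := Fintype.ofFinite C
  have : Fact p.Prime := ⟨hp⟩
  rw [Nat.card_eq_one_iff_unique]
  constructor
  · constructor
    rintro ⟨K, hK⟩ ⟨K', hK'⟩
    apply Subtype.ext
    show K = K'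
    have hle := IsCyclic.card_pow_eq_one_le (α := C) (n := p ^ β) (pow_pos hp.pos β)
    have key : ∀ L : Subgroup C, Nat.card L = p ^ β → (L : Set C) = {a | a ^ (p ^ β) = 1} := by
      intro L hL
      apply Set.eq_of_subset_of_ncard_le
      · intro a ha
        have h1 := pow_card_eq_one' (G := L) (x := ⟨a, ha⟩)
        rw [hL] at h1
        have h2 := congrArg Subtype.val h1
        rw [Subgroup.coe_pow, Subgroup.coe_one] at h2
        exact h2
      · have h3 : ({a : C | a ^ (p ^ β) = 1} : Set C).ncard =
            (Finset.univ.filter (fun a : C => a ^ (p ^ β) = 1)).card := by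
          rw [← Set.ncard_coe_finset]
          congr 1
          ext a
          simp
        rw [h3]
        calc _ ≤ p ^ β := hle
          _ = (L : Set C).ncard := by rw [← hL]; rfl
      · exact Set.toFinite _
    exact SetLike.coe_injective ((key K hK).trans (key K' hK').symm)
  · obtain ⟨K, hK⟩ := Sylow.exists_subgroup_card_pow_prime p hdvd
    exact ⟨⟨K, hK⟩⟩

/-- The number of subgroups of order `p ^ β` is `≡ 1 mod p`. -/
theorem card_subgroups_modEq_one {G : Type*} [Group G] [Finite G] (p β : ℕ) (hp : p.Prime)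
    (hdiv : p ^ β ∣ Nat.card G) :
    Nat.card {H : Subgroup G // Nat.card H = p ^ β} ≡ 1 [MOD p] := by
  obtain ⟨t, ht⟩ := hdiv
  have hn0 : Nat.card G ≠ 0 := Nat.card_pos.ne'
  have : NeZero (Nat.card G) := ⟨hn0⟩
  have ht0 : t ≠ 0 := by
    rintro rfl
    rw [mul_zero] at ht
    exact hn0 ht
  have hC : Nat.card (Multiplicative (ZMod (Nat.card G))) = Nat.card G := by
    rw [Nat.card_congr Multiplicative.toAdd, Nat.card_zmod]
  have h1 := choose_modEq_card_subgroups (G := G) p β t hp ht
  have h2 := choose_modEq_card_subgroups (G := Multiplicative (ZMod (Nat.card G))) p β t hp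
    (hC.trans ht)
  rw [hC, cyclic_card_subgroups_eq_one p β hp (by rw [hC, ht]; exact dvd_mul_right _ _)] at h2
  have h3 : Nat.card {H : Subgroup G // Nat.card H = p ^ β} * t ≡ 1 * t [MOD p * t] :=
    h1.symm.trans h2
  exact Nat.ModEq.mul_right_cancel' ht0 h3

/-- The number of normal subgroups of order `p ^ s` in a `p`-group is `≡ 1 mod p`. -/
theorem card_normal_subgroups_modEq_one {G : Type*} [Group G] [Finite G] (p m s : ℕ)
    (hp : p.Prime) (hG : Nat.card G = p ^ m) (hs : s ≤ m) :
    Nat.card {H : Subgroup G // H.Normal ∧ Nat.card H = p ^ s} ≡ 1 [MOD p] := by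
  classical
  have : Fact p.Prime := ⟨hp⟩
  have hGp : IsPGroup p G := IsPGroup.of_card hG
  have hdiv : p ^ s ∣ Nat.card G := by rw [hG]; exact pow_dvd_pow p hs
  have h1 := card_subgroups_modEq_one p s hp hdiv
  letI : MulAction G {H : Subgroup G // Nat.card H = p ^ s} :=
    { smul := fun g H => ⟨MulAut.conj g • H.1,
          (Nat.card_congr (Subgroup.equivSMul (MulAut.conj g) H.1).toEquiv).symm.trans H.2⟩
      one_smul := fun H => Subtype.ext (by
        show MulAut.conj (1 : G) • H.1 = H.1
        rw [map_one, one_smul])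
      mul_smul := fun a b H => Subtype.ext (by
        show MulAut.conj (a * b) • H.1 = MulAut.conj a • MulAut.conj b • H.1
        rw [map_mul, mul_smul]) }
  have h2 := hGp.card_modEq_card_fixedPoints {H : Subgroup G // Nat.card H = p ^ s}
  have h3 : Nat.card (fixedPoints G {H : Subgroup G // Nat.card H = p ^ s}) =
      Nat.card {H : Subgroup G // H.Normal ∧ Nat.card H = p ^ s} := by
    apply Nat.card_congr
    exact
      { toFun := fun H => ⟨H.1.1, ⟨by
            constructor
            intro n hn g
            have hfix : g • H.1 = H.1 := H.2 g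
            have hfix' : MulAut.conj g • H.1.1 = H.1.1 := congrArg Subtype.val hfix
            rw [← hfix', Helper1.mem_conj_smul]
            have h4 : g⁻¹ * (g * n * g⁻¹) * g = n := by group
            rw [h4]
            exact hn, H.1.2⟩⟩
        invFun := fun H => ⟨⟨H.1, H.2.2⟩, fun g => Subtype.ext (by
            have := H.2.1
            exact Helper1.conj_smul_eq_of_normal H.1 g)⟩
        left_inv := fun H => rfl
        right_inv := fun H => rfl }
  rw [← h3]
  exact h2.symm.trans h1

end Cfsg.Agent.Helper21
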