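import Mathlib
import Cfsg.Agent.Helper21.Wielandt
import Cfsg.Agent.Helper21.NilCoprime

/-!
A `p`-group with a unique subgroup of order `p` (and of order `4` when `p = 2`) is cyclic.
-/

set_option autoImplicit false

universe u

namespace Cfsg.Agent.Helper21

/-- Power of a product when the commutator is central. -/
theorem mul_pow_central {G : Type*} [Group G] {a b c : G} (hc : ∀ g : G, g * c = c * g)
    (h : b * a = c * (a * b)) (n : ℕ) :
    (a * b) ^ n = c ^ (n * (n - 1) / 2) * (a ^ n * b ^ n) := by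
  have hcn : ∀ (k : ℕ) (g : G), g * c ^ k = c ^ k * g := by
    intro k g
    induction k with
    | zero => simp
    | succ k ihk => rw [pow_succ, ← mul_assoc, ihk, mul_assoc, hc, mul_assoc]
  induction n with
  | zero => simp
  | succ n ih =>
    have h1 : b ^ n * a = c ^ n * (a * b ^ n) := pow_mul_comm_central hc h n
    rw [pow_succ (a * b) n, ih, Nat.triangle_succ, pow_add c]
    calc c ^ (n * (n - 1) / 2) * (a ^ n * b ^ n) * (a * b)
        = c ^ (n * (n - 1) / 2) * (a ^ n * (b ^ n * a) * b) := by simp only [mul_assoc]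
      _ = c ^ (n * (n - 1) / 2) * (a ^ n * (c ^ n * (a * b ^ n)) * b) := by rw [h1]
      _ = c ^ (n * (n - 1) / 2) * (c ^ n * (a ^ n * (a * b ^ n)) * b) := by
          rw [← mul_assoc (a ^ n) (c ^ n), hcn n (a ^ n), mul_assoc (c ^ n)]
      _ = c ^ (n * (n - 1) / 2) * c ^ n * (a ^ (n + 1) * b ^ (n + 1)) := by
          rw [pow_succ a, pow_succ b]; simp only [mul_assoc]

theorem commute_of_isCyclic_subgroup {G : Type*} [Group G] (M : Subgroup G) [IsCyclic ↥M]
    {u v : G} (hu : u ∈ M) (hv : v ∈ M) : u * v = v * u := by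
  have h := (IsCyclic.isMulCommutative (α := ↥M)).is_comm.comm ⟨u, hu⟩ ⟨v, hv⟩
  exact congrArg Subtype.val h

/-- A `p`-group with a unique subgroup of order `p`, and a unique subgroup of order `4` if
`p = 2`, is cyclic. -/
theorem isCyclic_of_unique_aux (N : ℕ) : ∀ (G : Type u) [Group G] [Finite G], Nat.card G = N →
    ∀ (p : ℕ), p.Prime → IsPGroup p G →
    (∀ H K : Subgroup G, Nat.card H = p → Nat.card K = p → H = K) →
    (p = 2 → ∀ H K : Subgroup G, Nat.card H = 4 → Nat.card K = 4 → H = K) → IsCyclic G := by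
  induction N using Nat.strong_induction_on with
  | _ N IH =>
    intro G _ _ hN p hp hG hU1 hU2
    haveI : Fact p.Prime := ⟨hp⟩
    obtain ⟨m, hm⟩ := hG.exists_card_eq
    by_contra hnc
    have hm2 : 2 ≤ m := by
      by_contra hlt
      have hm01 : m = 0 ∨ m = 1 := by omega
      rcases hm01 with h0 | h1
      · rw [h0, pow_zero] at hm
        haveI : Subsingleton G := (Nat.card_eq_one_iff_unique.1 hm).1
        exact hnc isCyclic_of_subsingleton
      · rw [h1, pow_one] at hm
        exact hnc (isCyclic_of_prime_card hm)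
    have hdvd : p ^ (m - 1) ∣ Nat.card G := by rw [hm]; exact pow_dvd_pow p (Nat.sub_le m 1)
    obtain ⟨M₁, hM₁⟩ := Sylow.exists_subgroup_card_pow_prime p hdvd
    have hM₁top : M₁ ≠ ⊤ := by
      intro h
      rw [h, Subgroup.card_top, hm] at hM₁
      have := Nat.pow_right_injective hp.two_le hM₁
      omega
    obtain ⟨g, hg⟩ : ∃ g : G, g ∉ M₁ := by
      by_contra hall
      push_neg at hall
      exact hM₁top (eq_top_iff.2 fun x _ => hall x)
    have hgtop : Subgroup.zpowers g ≠ ⊤ := by
      intro h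
      exact hnc ⟨g, fun x => Subgroup.mem_zpowers_iff.1 (by rw [h]; trivial)⟩
    obtain ⟨j, hj, hjc⟩ := (Nat.dvd_prime_pow hp).1
      (show Nat.card (Subgroup.zpowers g) ∣ p ^ m by
        rw [← hm]; exact Subgroup.card_subgroup_dvd_card _)
    have hjm : j ≤ m - 1 := by
      by_contra hlt
      have hjm' : j = m := by omega
      apply hgtop
      apply Subgroup.eq_top_of_card_eq
      rw [hjc, hjm', hm]
    obtain ⟨M₂, hM₂, hgM₂⟩ :=
      Sylow.exists_subgroup_card_pow_prime_le p hdvd (Subgroup.zpowers g) hjc hjm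
    have hgM₂' : g ∈ M₂ := hgM₂ (Subgroup.mem_zpowers g)
    have hne : M₁ ≠ M₂ := fun h => hg (by rw [h]; exact hgM₂')
    have hm3 : 3 ≤ m := by
      by_contra hlt
      have hm1 : m - 1 = 1 := by omega
      rw [hm1, pow_one] at hM₁ hM₂
      exact hne (hU1 M₁ M₂ hM₁ hM₂)
    have hcyc : ∀ M : Subgroup G, Nat.card M = p ^ (m - 1) → IsCyclic ↥M := by
      intro M hM
      have hlt : Nat.card M < N := by
        rw [hM, ← hN, hm]; exact Nat.pow_lt_pow_right hp.one_lt (by omega)
      refine IH _ hlt M rfl p hp (hG.to_subgroup M) ?_ ?_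
      · intro H K hH hK
        have h1 := hU1 (H.map M.subtype) (K.map M.subtype)
          (by rw [Subgroup.card_map_of_injective M.subtype_injective]; exact hH)
          (by rw [Subgroup.card_map_of_injective M.subtype_injective]; exact hK)
        exact Subgroup.map_injective M.subtype_injective h1
      · intro h2 H K hH hK
        have h1 := hU2 h2 (H.map M.subtype) (K.map M.subtype)
          (by rw [Subgroup.card_map_of_injective M.subtype_injective]; exact hH)
          (by rw [Subgroup.card_map_of_injective M.subtype_injective]; exact hK)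
        exact Subgroup.map_injective M.subtype_injective h1
    have hidx : ∀ M : Subgroup G, Nat.card M = p ^ (m - 1) → M.index = p := by
      intro M hM
      have h := Subgroup.card_mul_index M
      rw [hM, hm] at h
      have h2 : p ^ (m - 1) * p = p ^ m := by
        rw [← pow_succ]; congr 1; omega
      exact Nat.eq_of_mul_eq_mul_left (pow_pos hp.pos _) (h.trans h2.symm)
    have hnorm : ∀ M : Subgroup G, Nat.card M = p ^ (m - 1) → M.Normal := by
      intro M hM
      apply Subgroup.normal_of_index_eq_minFac_card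
      rw [hidx M hM, hm, Nat.pow_minFac (by omega), Nat.Prime.minFac_eq hp]
    haveI hc₁ := hcyc M₁ hM₁
    haveI hc₂ := hcyc M₂ hM₂
    have hpow : ∀ (M : Subgroup G), Nat.card M = p ^ (m - 1) → ∀ x : G, x ^ p ∈ M := by
      intro M hM x
      haveI := hnorm M hM
      have h := M.pow_index_mem x
      rwa [hidx M hM] at h
    have hcomm : ∀ (M : Subgroup G), Nat.card M = p ^ (m - 1) → ∀ a b : G,
        b * a * b⁻¹ * a⁻¹ ∈ M := by
      intro M hM a b
      haveI := hnorm M hM
      have hq : Nat.card (G ⧸ M) = p := by rw [← Subgroup.index_eq_card, hidx M hM]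
      haveI : IsCyclic (G ⧸ M) := isCyclic_of_prime_card hq
      rw [← QuotientGroup.eq_one_iff]
      have h := (IsCyclic.isMulCommutative (α := G ⧸ M)).is_comm.comm (b : G ⧸ M) (a : G ⧸ M)
      rw [QuotientGroup.mk_mul, QuotientGroup.mk_mul, QuotientGroup.mk_mul, QuotientGroup.mk_inv,
        QuotientGroup.mk_inv, h, mul_inv_cancel_right, mul_inv_cancel]
    have hsup : M₁ ⊔ M₂ = ⊤ := by
      obtain ⟨k, hk, hkc⟩ := (Nat.dvd_prime_pow hp).1
        (show Nat.card (M₁ ⊔ M₂ : Subgroup G) ∣ p ^ m by
          rw [← hm]; exact Subgroup.card_subgroup_dvd_card _)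
      have h1 : m - 1 ≤ k := by
        have h := Subgroup.card_dvd_of_le (le_sup_left : M₁ ≤ M₁ ⊔ M₂)
        rw [hM₁, hkc] at h
        exact (Nat.pow_dvd_pow_iff_le_right hp.one_lt).1 h
      by_cases hk' : k = m
      · apply Subgroup.eq_top_of_card_eq; rw [hkc, hk', hm]
      · exfalso
        have hk2 : k = m - 1 := by omega
        have e1 : M₁ = M₁ ⊔ M₂ :=
          Subgroup.eq_of_le_of_card_ge le_sup_left (le_of_eq (by rw [hkc, hk2, hM₁]))
        have h2 : M₂ ≤ M₁ := by rw [e1]; exact le_sup_right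
        exact hne (Subgroup.eq_of_le_of_card_ge h2 (le_of_eq (by rw [hM₁, hM₂]))).symm
    have hDcentral : ∀ d : G, d ∈ M₁ → d ∈ M₂ → ∀ g : G, g * d = d * g := by
      intro d hd1 hd2
      have hcent : M₁ ⊔ M₂ ≤ Subgroup.centralizer ({d} : Set G) := by
        refine sup_le ?_ ?_
        · intro u hu
          rw [Subgroup.mem_centralizer_iff]
          intro h hh
          rw [Set.mem_singleton_iff.1 hh]
          exact commute_of_isCyclic_subgroup M₁ hd1 hu
        · intro u hu
          rw [Subgroup.mem_centralizer_iff]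
          intro h hh
          rw [Set.mem_singleton_iff.1 hh]
          exact commute_of_isCyclic_subgroup M₂ hd2 hu
      intro g
      have hg' : g ∈ Subgroup.centralizer ({d} : Set G) := hcent (by rw [hsup]; trivial)
      exact (Subgroup.mem_centralizer_iff.1 hg' d (Set.mem_singleton d)).symm
    have hcentral_c : ∀ a b g : G, g * (b * a * b⁻¹ * a⁻¹) = (b * a * b⁻¹ * a⁻¹) * g :=
      fun a b g => hDcentral _ (hcomm M₁ hM₁ a b) (hcomm M₂ hM₂ a b) g
    have hrel : ∀ a b : G, b * a = (b * a * b⁻¹ * a⁻¹) * (a * b) := fun a b => by group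
    have hcp : ∀ a b : G, (b * a * b⁻¹ * a⁻¹) ^ p = 1 := by
      intro a b
      have h1 := pow_mul_comm_central (hcentral_c a b) (hrel a b) p
      have h2 : b ^ p * a = a * b ^ p :=
        (hDcentral _ (hpow M₁ hM₁ b) (hpow M₂ hM₂ b) a).symm
      rw [h2] at h1
      exact mul_eq_right.1 h1.symm
    obtain ⟨q, hq⟩ : ∃ q : ℕ, q = if p = 2 then 4 else p := ⟨_, rfl⟩
    have hkey : ∀ a b : G, (a * b) ^ q = a ^ q * b ^ q := by
      intro a b
      have h1 := mul_pow_central (hcentral_c a b) (hrel a b) q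
      have h2 : (b * a * b⁻¹ * a⁻¹) ^ (q * (q - 1) / 2) = 1 := by
        by_cases hp2 : p = 2
        · have hq4 : q = 4 := by rw [hq, if_pos hp2]
          have h3 := hcp a b
          rw [hp2] at h3
          have h6 : q * (q - 1) / 2 = 2 * 3 := by rw [hq4]
          rw [h6, pow_mul, h3, one_pow]
        · have hqp : q = p := by rw [hq, if_neg hp2]
          rw [hqp]
          have hodd : 2 ∣ p - 1 := by
            rcases hp.eq_two_or_odd with h | h
            · exact absurd h hp2
            · omega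
          rw [Nat.mul_div_assoc p hodd, pow_mul, hcp a b, one_pow]
      rw [h1, h2, one_mul]
    let θ : G →* G := { toFun := fun g => g ^ q, map_one' := one_pow q, map_mul' := hkey }
    have hθ : ∀ g : G, θ g = g ^ q := fun g => rfl
    have hUex : ∃ U : Subgroup G, Nat.card U = q := by
      by_cases hp2 : p = 2
      · have hq4 : q = 4 := by rw [hq, if_pos hp2]
        obtain ⟨U, hU⟩ := Sylow.exists_subgroup_card_pow_prime p (n := 2)
          (by rw [hm]; exact pow_dvd_pow p (by omega))
        exact ⟨U, by norm_num [hU, hq4, hp2]⟩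
      · have hqp : q = p := by rw [hq, if_neg hp2]
        obtain ⟨U, hU⟩ := Sylow.exists_subgroup_card_pow_prime p (n := 1)
          (by rw [hm]; exact pow_dvd_pow p (by omega))
        exact ⟨U, by rw [hU, hqp, pow_one]⟩
    obtain ⟨U, hUc⟩ := hUex
    have hker : θ.ker ≤ U := by
      intro g hg
      rw [MonoidHom.mem_ker, hθ] at hg
      by_cases hg1 : g = 1
      · rw [hg1]; exact one_mem U
      have hord : orderOf g ∣ q := orderOf_dvd_of_pow_eq_one hg
      have hord1 : orderOf g ≠ 1 := fun h => hg1 (orderOf_eq_one_iff.1 h)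
      by_cases hp2 : p = 2
      · have hq4 : q = 4 := by rw [hq, if_pos hp2]
        rw [hq4] at hord
        have h24 : orderOf g = 2 ∨ orderOf g = 4 := by
          have hle : orderOf g ≤ 4 := Nat.le_of_dvd (by norm_num) hord
          have h3 : orderOf g ≠ 3 := fun h => by rw [h] at hord; omega
          have h0 : orderOf g ≠ 0 := (orderOf_pos g).ne'
          omega
        rcases h24 with h2 | h4
        · haveI : Fact (Nat.Prime 2) := ⟨Nat.prime_two⟩
          obtain ⟨u, hu⟩ := exists_prime_orderOf_dvd_card' (G := ↥U) 2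
            (by rw [hUc, hq4]; norm_num)
          have hu' : orderOf (u : G) = 2 := by rw [Subgroup.orderOf_coe]; exact hu
          have heq : Subgroup.zpowers g = Subgroup.zpowers (u : G) :=
            hU1 _ _ (by rw [Nat.card_zpowers, h2, hp2]) (by rw [Nat.card_zpowers, hu', hp2])
          have hgu : g ∈ Subgroup.zpowers (u : G) := by
            rw [← heq]; exact Subgroup.mem_zpowers g
          exact (Subgroup.zpowers_le.2 u.2) hgu
        · have heq : Subgroup.zpowers g = U :=
            hU2 hp2 _ _ (by rw [Nat.card_zpowers, h4]) (by rw [hUc, hq4])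
          rw [← heq]; exact Subgroup.mem_zpowers g
      · have hqp : q = p := by rw [hq, if_neg hp2]
        rw [hqp] at hord
        have hop : orderOf g = p := ((Nat.dvd_prime hp).1 hord).resolve_left hord1
        have heq : Subgroup.zpowers g = U :=
          hU1 _ _ (by rw [Nat.card_zpowers, hop]) (by rw [hUc, hqp])
        rw [← heq]; exact Subgroup.mem_zpowers g
    have hcount : Nat.card G = Nat.card θ.ker * Nat.card θ.range := by
      rw [← Subgroup.index_ker, Subgroup.card_mul_index]
    have hkerc : Nat.card θ.ker ≤ q := by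
      rw [← hUc]; exact Subgroup.card_le_of_le hker
    obtain ⟨j', hj', hj'c⟩ := (Nat.dvd_prime_pow hp).1
      (show Nat.card (M₁ ⊓ M₂ : Subgroup G) ∣ p ^ (m - 1) by
        rw [← hM₁]; exact Subgroup.card_dvd_of_le inf_le_left)
    have hj'lt : j' < m - 1 := by
      by_contra hge
      have hj'e : j' = m - 1 := by omega
      have e1 : M₁ ⊓ M₂ = M₁ :=
        Subgroup.eq_of_le_of_card_ge inf_le_left (le_of_eq (by rw [hj'c, hj'e, hM₁]))
      have h2 : M₁ ≤ M₂ := by rw [← e1]; exact inf_le_right
      exact hne (Subgroup.eq_of_le_of_card_ge h2 (le_of_eq (by rw [hM₁, hM₂])))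
    have hDcard : Nat.card (M₁ ⊓ M₂ : Subgroup G) * p ≤ p ^ (m - 1) := by
      rw [hj'c, ← pow_succ]
      exact Nat.pow_le_pow_right hp.pos (by omega)
    have hGlt : p ^ (m - 1) < Nat.card G := by
      rw [hm]; exact Nat.pow_lt_pow_right hp.one_lt (by omega)
    by_cases hp2 : p = 2
    · have hq4 : q = 4 := by rw [hq, if_pos hp2]
      have hsq : ∀ x : G, x ^ 2 ∈ M₁ ⊓ M₂ := fun x => by
        have h1 := hpow M₁ hM₁ x
        have h2 := hpow M₂ hM₂ x
        rw [hp2] at h1 h2
        exact Subgroup.mem_inf.2 ⟨h1, h2⟩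
      let σ : ↥(M₁ ⊓ M₂ : Subgroup G) →* G :=
        { toFun := fun d => (d : G) ^ 2
          map_one' := by simp
          map_mul' := fun d₁ d₂ => by
            have hcm : (d₁ : G) * (d₂ : G) = (d₂ : G) * (d₁ : G) :=
              hDcentral _ (Subgroup.mem_inf.1 d₂.2).1 (Subgroup.mem_inf.1 d₂.2).2 _
            show ((d₁ : G) * (d₂ : G)) ^ 2 = (d₁ : G) ^ 2 * (d₂ : G) ^ 2
            exact (Commute.mul_pow hcm 2) }
      have hσ : ∀ d : ↥(M₁ ⊓ M₂ : Subgroup G), σ d = (d : G) ^ 2 := fun d => rfl
      have hrange : θ.range ≤ σ.range := by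
        rintro _ ⟨g, rfl⟩
        refine ⟨⟨g ^ 2, hsq g⟩, ?_⟩
        rw [hσ, hθ, hq4, ← pow_mul]
      have hσcount : Nat.card ↥(M₁ ⊓ M₂ : Subgroup G) = Nat.card σ.ker * Nat.card σ.range := by
        rw [← Subgroup.index_ker, Subgroup.card_mul_index]
      have hj'pos : j' ≠ 0 := by
        intro h0
        rw [h0, pow_zero] at hj'c
        have hbot : ∀ x : G, x ^ 2 = 1 := by
          intro x
          have hx := hsq x
          have hsub : Subsingleton ↥(M₁ ⊓ M₂ : Subgroup G) :=
            (Nat.card_eq_one_iff_unique.1 hj'c).1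
          have := congrArg Subtype.val (hsub.elim ⟨x ^ 2, hx⟩ 1)
          simpa using this
        have hkt : θ.ker = ⊤ := by
          rw [eq_top_iff]
          intro x _
          rw [MonoidHom.mem_ker, hθ, hq4, show (4 : ℕ) = 2 * 2 from rfl, pow_mul, hbot]
        have h1 : Nat.card G ≤ 4 := by
          have := hkerc
          rw [hkt, Subgroup.card_top, hq4] at this
          exact this
        have h2 : (2 : ℕ) ^ 3 ≤ Nat.card G := by
          rw [hm, hp2]; exact Nat.pow_le_pow_right (by norm_num) hm3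
        omega
      have hσker : 2 ≤ Nat.card σ.ker := by
        haveI : Fact (Nat.Prime 2) := ⟨Nat.prime_two⟩
        obtain ⟨d, hd⟩ := exists_prime_orderOf_dvd_card' (G := ↥(M₁ ⊓ M₂ : Subgroup G)) 2
          (by rw [hj'c, hp2]; exact dvd_pow_self 2 hj'pos)
        have hdk : d ∈ σ.ker := by
          rw [MonoidHom.mem_ker, hσ]
          have h1 : d ^ 2 = 1 := by rw [← hd]; exact pow_orderOf_eq_one d
          have := congrArg Subtype.val h1
          simpa using this
        have hd1 : d ≠ 1 := by
          intro h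
          rw [h, orderOf_one] at hd
          omega
        have hne' : σ.ker ≠ ⊥ := by
          intro h
          rw [h, Subgroup.mem_bot] at hdk
          exact hd1 hdk
        have := (Subgroup.one_lt_card_iff_ne_bot σ.ker).2 hne'
        omega
      have hr1 : Nat.card θ.range ≤ Nat.card σ.range := Subgroup.card_le_of_le hrange
      have hDc := hDcard
      rw [hp2] at hDc hGlt
      rw [hq4] at hkerc
      have h5 : Nat.card θ.ker * Nat.card θ.range ≤ 4 * Nat.card σ.range :=
        Nat.mul_le_mul hkerc hr1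
      have h6 : 2 * Nat.card σ.range ≤ Nat.card σ.ker * Nat.card σ.range :=
        Nat.mul_le_mul_right _ hσker
      omega
    · have hqp : q = p := by rw [hq, if_neg hp2]
      have hrange : θ.range ≤ M₁ ⊓ M₂ := by
        rintro _ ⟨g, rfl⟩
        rw [hθ, hqp]
        exact Subgroup.mem_inf.2 ⟨hpow M₁ hM₁ g, hpow M₂ hM₂ g⟩
      have hr1 : Nat.card θ.range ≤ Nat.card (M₁ ⊓ M₂ : Subgroup G) :=
        Subgroup.card_le_of_le hrange
      rw [hqp] at hkerc
      have h5 : Nat.card θ.ker * Nat.card θ.range ≤ p * Nat.card (M₁ ⊓ M₂ : Subgroup G) :=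
        Nat.mul_le_mul hkerc hr1
      have h6 : p * Nat.card (M₁ ⊓ M₂ : Subgroup G) = Nat.card (M₁ ⊓ M₂ : Subgroup G) * p :=
        mul_comm _ _
      omega

/-- A group of order `p ^ m` with a unique subgroup of order `p ^ s`, `1 ≤ s < m`
(`2 ≤ s` if `p = 2`), is cyclic. -/
theorem isCyclic_of_unique_subgroup_card_pow {G : Type u} [Group G] [Finite G] (p m s : ℕ)
    (hp : p.Prime) (hG : Nat.card G = p ^ m) (hs : 1 ≤ s) (hsm : s < m) (h2 : p ≠ 2 ∨ 2 ≤ s)
    (huniq : ∀ H K : Subgroup G, Nat.card H = p ^ s → Nat.card K = p ^ s → H = K) :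
    IsCyclic G := by
  haveI : Fact p.Prime := ⟨hp⟩
  have hPG : IsPGroup p G := IsPGroup.of_card hG
  have hsdvd : p ^ s ∣ Nat.card G := by rw [hG]; exact pow_dvd_pow p hsm.le
  obtain ⟨H, hH⟩ := Sylow.exists_subgroup_card_pow_prime p hsdvd
  obtain ⟨L, hL, hHL⟩ := Sylow.exists_subgroup_card_pow_prime_le p
    (show p ^ (s + 1) ∣ Nat.card G by rw [hG]; exact pow_dvd_pow p hsm) H hH (Nat.le_succ s)
  have hLcyc : IsCyclic ↥L := by
    obtain ⟨g, hgL, hgH⟩ : ∃ g : G, g ∈ L ∧ g ∉ H := by
      by_contra hall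
      push_neg at hall
      have hle : L ≤ H := fun x hx => hall x hx
      have h := Subgroup.card_le_of_le hle
      rw [hL, hH] at h
      exact absurd h (not_le.2 (Nat.pow_lt_pow_right hp.one_lt (Nat.lt_succ_self s)))
    obtain ⟨j, hj, hjc⟩ := (Nat.dvd_prime_pow hp).1
      (show Nat.card (Subgroup.zpowers g) ∣ p ^ (s + 1) by
        rw [← hL]; exact Subgroup.card_dvd_of_le (Subgroup.zpowers_le.2 hgL))
    have hjs : j = s + 1 := by
      by_contra hne
      have hjs' : j ≤ s := by omega
      obtain ⟨K, hK, hgK⟩ :=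
        Sylow.exists_subgroup_card_pow_prime_le p hsdvd (Subgroup.zpowers g) hjc hjs'
      rw [huniq K H hK hH] at hgK
      exact hgH (hgK (Subgroup.mem_zpowers g))
    have heq : Subgroup.zpowers g = L :=
      Subgroup.eq_of_le_of_card_ge (Subgroup.zpowers_le.2 hgL) (le_of_eq (by rw [hjc, hjs, hL]))
    rw [← heq]; infer_instance
  have hU : ∀ j : ℕ, j ≤ s → ∀ K₁ K₂ : Subgroup G, Nat.card K₁ = p ^ j →
      Nat.card K₂ = p ^ j → K₁ = K₂ := by
    intro j hjs K₁ K₂ h1 h2'
    have hle : ∀ K : Subgroup G, Nat.card K = p ^ j → K ≤ L := by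
      intro K hK
      obtain ⟨K', hK', hKK'⟩ := Sylow.exists_subgroup_card_pow_prime_le p hsdvd K hK hjs
      rw [huniq K' H hK' hH] at hKK'
      exact hKK'.trans hHL
    have hone := cyclic_card_subgroups_eq_one (C := ↥L) p j hp
      (by rw [hL]; exact pow_dvd_pow p (by omega))
    have hsub : Subsingleton {K : Subgroup ↥L // Nat.card K = p ^ j} :=
      (Nat.card_eq_one_iff_unique.1 hone).1
    have hc : ∀ K : Subgroup G, K ≤ L → Nat.card (K.subgroupOf L) = Nat.card K := fun K hK =>
      Nat.card_congr (Subgroup.subgroupOfEquivOfLe hK).toEquiv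
    have e := congrArg Subtype.val (hsub.elim
      ⟨K₁.subgroupOf L, by rw [hc K₁ (hle K₁ h1), h1]⟩
      ⟨K₂.subgroupOf L, by rw [hc K₂ (hle K₂ h2'), h2']⟩)
    have e' := congrArg (Subgroup.map L.subtype) e
    rwa [Subgroup.map_subgroupOf_eq_of_le (hle K₁ h1),
      Subgroup.map_subgroupOf_eq_of_le (hle K₂ h2')] at e'
  refine isCyclic_of_unique_aux (Nat.card G) G rfl p hp hPG
    (fun H K hH hK => hU 1 hs H K (by rw [hH, pow_one]) (by rw [hK, pow_one])) ?_
  intro hp2 H K hH hK
  have hs2 : 2 ≤ s := h2.resolve_left (fun h => h hp2)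
  exact hU 2 hs2 H K (by norm_num [hH, hp2]) (by norm_num [hK, hp2])

end Cfsg.Agent.Helper21
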