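import Mathlib
import Cfsg.Prelude.Def_Transfer
import Cfsg.Agent.Helper6.Fpf
import Cfsg.Agent.Helper21.Primary

set_option autoImplicit false

namespace Cfsg.Agent.Helper21

open scoped IsMulCommutative

/-- A `p`-element normalizing a Sylow `p`-subgroup lies in it. -/
theorem mem_sylow_of_mem_normalizer_of_orderOf {G : Type*} [Group G] {p : ℕ} [Fact p.Prime]
    (P : Sylow p G) {z : G} (hz : z ∈ Subgroup.normalizer ((P : Subgroup G) : Set G)) {b : ℕ}
    (hzo : orderOf z = p ^ b) : z ∈ (P : Subgroup G) := by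
  have hZ : IsPGroup p ↥(Subgroup.zpowers z) :=
    IsPGroup.of_card (by rw [Nat.card_zpowers, hzo])
  have hle : Subgroup.zpowers z ≤ Subgroup.normalizer ((P : Subgroup G) : Set G) :=
    Subgroup.zpowers_le.2 hz
  have hsup : IsPGroup p ↥(Subgroup.zpowers z ⊔ (P : Subgroup G)) :=
    IsPGroup.to_sup_of_normal_right' hZ P.isPGroup' hle
  have heq : Subgroup.zpowers z ⊔ (P : Subgroup G) = P := P.is_maximal' hsup le_sup_right
  rw [← heq]
  exact (le_sup_left : Subgroup.zpowers z ≤ Subgroup.zpowers z ⊔ (P : Subgroup G))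
    (Subgroup.mem_zpowers z)

/-- An element `z` normalizing an abelian `p`-group `P` with `z ^ k = 1`, `k` prime to `p`,
which centralizes `Ω₁(P)`, centralizes `P`. -/
theorem commute_of_centralizes_omega {G : Type*} [Group G] {p : ℕ} [Fact p.Prime]
    (P : Subgroup G) (hP : IsPGroup p P) (hab : ∀ a ∈ P, ∀ b ∈ P, a * b = b * a) (z : G)
    (hz : z ∈ Subgroup.normalizer (P : Set G)) (k : ℕ) (hk : k.Coprime p) (hzk : z ^ k = 1)
    (hΩ : ∀ x ∈ P, x ^ p = 1 → z * x = x * z) : ∀ x ∈ P, z * x = x * z := by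
  have key : ∀ j : ℕ, ∀ x ∈ P, x ^ p ^ j = 1 → z * x = x * z := by
    intro j
    induction j with
    | zero =>
      intro x _ hx
      rw [pow_zero, pow_one] at hx
      rw [hx, mul_one, one_mul]
    | succ j ih =>
      intro x hxP hx
      have hxp : z * x ^ p = x ^ p * z := by
        apply ih (x ^ p) (P.pow_mem hxP p)
        rw [← pow_mul, ← pow_succ']
        exact hx
      have hzx : z * x * z⁻¹ ∈ P := (Subgroup.mem_normalizer_iff.1 hz x).1 hxP
      obtain ⟨c, hc⟩ : ∃ c, c = z * x * z⁻¹ * x⁻¹ := ⟨_, rfl⟩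
      have hcP : c ∈ P := by rw [hc]; exact P.mul_mem hzx (P.inv_mem hxP)
      have hcp : c ^ p = 1 := by
        have h1 : c ^ p = (z * x * z⁻¹) ^ p * (x⁻¹) ^ p := by
          rw [hc]
          exact (show Commute (z * x * z⁻¹) x⁻¹ from hab _ hzx _ (P.inv_mem hxP)).mul_pow p
        rw [h1, conj_pow, inv_pow, hxp]
        group
      have hzc : z * c = c * z := hΩ c hcP hcp
      have hzx' : z * x = c * x * z := by rw [hc]; group
      have hpow : ∀ i : ℕ, z ^ i * x = c ^ i * x * z ^ i := by
        intro i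
        induction i with
        | zero => simp
        | succ i ihi =>
          have hzci : z * c ^ i = c ^ i * z := (Commute.pow_right (show Commute z c from hzc) i).eq
          calc z ^ (i + 1) * x = z * (z ^ i * x) := by rw [pow_succ', mul_assoc]
            _ = z * (c ^ i * x * z ^ i) := by rw [ihi]
            _ = (z * c ^ i) * x * z ^ i := by group
            _ = c ^ i * (z * x) * z ^ i := by rw [hzci]; group
            _ = c ^ i * (c * x * z) * z ^ i := by rw [hzx']
            _ = c ^ (i + 1) * x * z ^ (i + 1) := by group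
      have hck : c ^ k = 1 := by
        have h2 := hpow k
        rw [hzk, one_mul, mul_one] at h2
        exact mul_eq_right.1 h2.symm
      have hc1 : c = 1 := by
        have h3 := pow_gcd_eq_one.2 ⟨hck, hcp⟩
        rw [Nat.Coprime.gcd_eq_one hk, pow_one] at h3
        exact h3
      rw [hzx', hc1, one_mul]
  intro x hxP
  obtain ⟨j, hj⟩ := hP ⟨x, hxP⟩
  have hj' : x ^ p ^ j = 1 := by
    have h0 := congrArg Subtype.val hj
    rwa [Subgroup.coe_pow, Subgroup.coe_one] at h0
  exact key j x hxP hj'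

theorem card_omega_dvd {P : Type*} [Group P] [Finite P] [IsMulCommutative P] (p : ℕ) :
    Nat.card (powMonoidHom p : P →* P).ker ∣ p ^ Group.rank P := by
  have h1 : (powMonoidHom p : P →* P).ker.index = Nat.card (powMonoidHom p : P →* P).range :=
    Subgroup.index_ker _
  have h2 : (powMonoidHom p : P →* P).ker.index * Nat.card (powMonoidHom p : P →* P).ker =
      Nat.card P := Subgroup.index_mul_card _
  have h3 : (powMonoidHom p : P →* P).range.index * Nat.card (powMonoidHom p : P →* P).range =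
      Nat.card P := Subgroup.index_mul_card _
  have h4 : Nat.card (powMonoidHom p : P →* P).ker = (powMonoidHom p : P →* P).range.index := by
    have hpos : 0 < Nat.card (powMonoidHom p : P →* P).range := Nat.card_pos
    have h5 : Nat.card (powMonoidHom p : P →* P).range * Nat.card (powMonoidHom p : P →* P).ker =
        Nat.card (powMonoidHom p : P →* P).range * (powMonoidHom p : P →* P).range.index := by
      calc Nat.card (powMonoidHom p : P →* P).range * Nat.card (powMonoidHom p : P →* P).ker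
          = (powMonoidHom p : P →* P).ker.index * Nat.card (powMonoidHom p : P →* P).ker := by
            rw [h1]
        _ = Nat.card P := h2
        _ = (powMonoidHom p : P →* P).range.index * Nat.card (powMonoidHom p : P →* P).range :=
            h3.symm
        _ = _ := mul_comm _ _
    exact Nat.eq_of_mul_eq_mul_left hpos h5
  rw [h4, Subgroup.index_eq_card]
  have hexp : ∀ v : P ⧸ (powMonoidHom p : P →* P).range, v ^ p = 1 := by
    intro v
    obtain ⟨x, rfl⟩ := QuotientGroup.mk_surjective v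
    rw [← QuotientGroup.mk_pow, QuotientGroup.eq_one_iff]
    exact ⟨x, rfl⟩
  have h5 := card_dvd_exponent_pow_rank' (P ⧸ (powMonoidHom p : P →* P).range) hexp
  have h6 : Group.rank (P ⧸ (powMonoidHom p : P →* P).range) ≤ Group.rank P :=
    Group.rank_le_of_surjective (QuotientGroup.mk' _) (QuotientGroup.mk'_surjective _)
  exact h5.trans (pow_dvd_pow p h6)

/-- A `q`-element normalizing but not centralizing an abelian `p`-group `P` forces
`q ∣ p ^ i - 1` for some `1 ≤ i ≤ rank P`. -/
theorem exists_dvd_pow_sub_one_of_not_centralizes {G : Type*} [Group G] [Finite G] {p q : ℕ}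
    [Fact p.Prime] [Fact q.Prime] (hpq : q ≠ p) (P : Subgroup G) (hP : IsPGroup p P)
    [IsMulCommutative P] (z : G) (hz : z ∈ Subgroup.normalizer (P : Set G)) (b : ℕ)
    (hzo : orderOf z = q ^ b) (hnc : ¬ ∀ x ∈ P, z * x = x * z) :
    ∃ i, 1 ≤ i ∧ i ≤ Group.rank P ∧ q ∣ p ^ i - 1 := by
  classical
  have hpp : p.Prime := Fact.out
  have hqp : q.Prime := Fact.out
  have hab : ∀ a ∈ P, ∀ b ∈ P, a * b = b * a := fun a ha b hb => setLike_mul_comm (s := P) ha hb
  obtain ⟨Ω, hΩdef⟩ : ∃ Ω : Subgroup G, Ω = ((powMonoidHom p : P →* P).ker).map P.subtype :=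
    ⟨_, rfl⟩
  have hΩmem : ∀ x, x ∈ Ω ↔ x ∈ P ∧ x ^ p = 1 := by
    intro x
    rw [hΩdef]
    constructor
    · rintro ⟨y, hy, rfl⟩
      refine ⟨y.2, ?_⟩
      have h1 : y ^ p = 1 := hy
      have h2 := congrArg Subtype.val h1
      rwa [Subgroup.coe_pow, Subgroup.coe_one] at h2
    · rintro ⟨hx, hxp⟩
      refine ⟨⟨x, hx⟩, ?_, rfl⟩
      show (⟨x, hx⟩ : P) ^ p = 1
      apply Subtype.ext
      rw [Subgroup.coe_pow, Subgroup.coe_one]
      exact hxp
  have hΩcard : Nat.card Ω ∣ p ^ Group.rank P := by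
    have h1 : Nat.card Ω = Nat.card (powMonoidHom p : P →* P).ker := by
      rw [hΩdef]
      exact Subgroup.card_map_of_injective P.subtype_injective
    rw [h1]
    exact card_omega_dvd p
  obtain ⟨d', hd', hΩd⟩ := (Nat.dvd_prime_pow hpp).1 hΩcard
  have hzΩ : Subgroup.zpowers z ≤ Subgroup.normalizer (Ω : Set G) := by
    rw [Subgroup.zpowers_le, Subgroup.mem_normalizer_iff]
    intro x
    rw [hΩmem, hΩmem]
    have hn := Subgroup.mem_normalizer_iff.1 hz
    constructor
    · rintro ⟨hx, hxp⟩
      exact ⟨(hn x).1 hx, by rw [conj_pow, hxp, mul_one, mul_inv_cancel]⟩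
    · rintro ⟨hx, hxp⟩
      refine ⟨(hn x).2 hx, ?_⟩
      rw [conj_pow] at hxp
      have h1 : x ^ p = z⁻¹ * (z * x ^ p * z⁻¹) * z := by group
      rw [h1, hxp]
      group
  have hk : (q ^ b).Coprime p := Nat.Coprime.pow_left b ((Nat.coprime_primes hqp hpp).2 hpq)
  have hnΩ : ¬ ∀ x ∈ Ω, z * x = x * z := by
    intro h
    apply hnc
    apply commute_of_centralizes_omega P hP hab z hz (q ^ b) hk
      (by rw [← hzo]; exact pow_orderOf_eq_one z)
    intro x hx hxp
    exact h x ((hΩmem x).2 ⟨hx, hxp⟩)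
  letI := Cfsg.Agent.Helper6.conjActionOn Ω (Subgroup.zpowers z) hzΩ
  have hZ : IsPGroup q ↥(Subgroup.zpowers z) :=
    IsPGroup.of_card (by rw [Nat.card_zpowers, hzo])
  have hmod := hZ.card_modEq_card_fixedPoints ↥Ω
  have hFcard : Nat.card (MulAction.fixedPoints ↥(Subgroup.zpowers z) ↥Ω) =
      Nat.card ↥(Ω ⊓ Subgroup.centralizer ({z} : Set G)) := by
    apply Nat.card_congr
    exact
      { toFun := fun x => ⟨x.1.1, Subgroup.mem_inf.2 ⟨x.1.2, by
            rw [Subgroup.mem_centralizer_iff]
            intro w hw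
            rw [Set.mem_singleton_iff] at hw
            rw [hw]
            have h1 := x.2 ⟨z, Subgroup.mem_zpowers z⟩
            have h2 : z * (x.1 : G) * z⁻¹ = x.1 := congrArg Subtype.val h1
            calc z * (x.1 : G) = (z * (x.1 : G) * z⁻¹) * z := by group
              _ = (x.1 : G) * z := by rw [h2]⟩⟩
        invFun := fun y => ⟨⟨y.1, (Subgroup.mem_inf.1 y.2).1⟩, by
            intro a
            apply Subtype.ext
            show (a : G) * y.1 * (a : G)⁻¹ = y.1
            have hy := (Subgroup.mem_inf.1 y.2).2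
            rw [Subgroup.mem_centralizer_iff] at hy
            have hzy : z * (y.1 : G) = y.1 * z := hy z (Set.mem_singleton z)
            obtain ⟨n, hn⟩ := Subgroup.mem_zpowers_iff.1 a.2
            rw [← hn]
            have h3 : Commute (z ^ n) (y.1 : G) := (show Commute z y.1 from hzy).zpow_left n
            rw [h3.eq]
            group⟩
        left_inv := fun x => rfl
        right_inv := fun y => rfl }
  have hFle : Ω ⊓ Subgroup.centralizer ({z} : Set G) ≤ Ω := inf_le_left
  have hFdvd : Nat.card ↥(Ω ⊓ Subgroup.centralizer ({z} : Set G)) ∣ p ^ d' := by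
    rw [← hΩd]; exact Subgroup.card_dvd_of_le hFle
  obtain ⟨j, hj, hFj⟩ := (Nat.dvd_prime_pow hpp).1 hFdvd
  have hjlt : j < d' := by
    rcases Nat.lt_or_ge j d' with h | h
    · exact h
    · exfalso
      have hjd : j = d' := le_antisymm hj h
      have hFΩ : Ω ⊓ Subgroup.centralizer ({z} : Set G) = Ω :=
        Subgroup.eq_of_le_of_card_ge hFle (by rw [hFj, hΩd, hjd])
      apply hnΩ
      intro x hx
      have hxF : x ∈ Ω ⊓ Subgroup.centralizer ({z} : Set G) := by rw [hFΩ]; exact hx
      have h4 := (Subgroup.mem_inf.1 hxF).2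
      rw [Subgroup.mem_centralizer_iff] at h4
      exact h4 z (Set.mem_singleton z)
  rw [hFcard, hΩd, hFj] at hmod
  have h1 : q ∣ p ^ d' - p ^ j :=
    (Nat.modEq_iff_dvd' (Nat.pow_le_pow_right hpp.pos hj)).1 hmod.symm
  have h2 : p ^ d' - p ^ j = (p ^ (d' - j) - 1) * p ^ j := by
    rw [Nat.sub_mul, one_mul, ← pow_add, Nat.sub_add_cancel hj]
  rw [h2] at h1
  have hcop : q.Coprime (p ^ j) :=
    Nat.Coprime.pow_right j ((Nat.coprime_primes hqp hpp).2 hpq)
  exact ⟨d' - j, by omega, by omega, hcop.dvd_of_dvd_mul_right h1⟩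

end Cfsg.Agent.Helper21
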