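import Mathlib
import Cfsg.Agent.Helper21.Wielandt

set_option autoImplicit false

namespace Cfsg.Agent.Helper21

/-- In a cyclic `p`-group, every element of order dividing `p` is a power of any non-identity
element. -/
theorem mem_zpowers_of_pow_eq_one_of_cyclic {G : Type*} [Group G] [Finite G] {p : ℕ}
    [Fact p.Prime] (P : Subgroup G) (hP : IsPGroup p P) (hcyc : IsCyclic ↥P) {x w : G}
    (hxP : x ∈ P) (hx1 : x ≠ 1) (hwP : w ∈ P) (hwp : w ^ p = 1) : w ∈ Subgroup.zpowers x := by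
  have hpp : p.Prime := Fact.out
  by_cases hw1 : w = 1
  · rw [hw1]; exact Subgroup.one_mem _
  obtain ⟨a, ha⟩ : ∃ a, orderOf x = p ^ a := by
    obtain ⟨j, hj⟩ := hP ⟨x, hxP⟩
    have hj' : x ^ p ^ j = 1 := by
      have h0 := congrArg Subtype.val hj
      rwa [Subgroup.coe_pow, Subgroup.coe_one] at h0
    obtain ⟨a, -, ha⟩ := (Nat.dvd_prime_pow hpp).1 (orderOf_dvd_of_pow_eq_one hj')
    exact ⟨a, ha⟩
  have ha0 : a ≠ 0 := by
    rintro rfl
    rw [pow_zero, orderOf_eq_one_iff] at ha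
    exact hx1 ha
  have hu : orderOf (x ^ p ^ (a - 1)) = p := by
    rw [orderOf_pow_of_dvd (pow_pos hpp.pos _).ne'
      (by rw [ha]; exact pow_dvd_pow p (Nat.sub_le a 1)), ha]
    have e : a = (a - 1) + 1 := by omega
    conv_lhs => rw [e, pow_succ]
    rw [Nat.add_sub_cancel]
    exact Nat.mul_div_cancel_left _ (pow_pos hpp.pos _)
  have hw : orderOf w = p := orderOf_eq_prime hwp hw1
  have hcard : Nat.card {K : Subgroup ↥P // Nat.card K = p ^ 1} = 1 := by
    apply cyclic_card_subgroups_eq_one p 1 hpp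
    rw [pow_one, ← hw, ← Subgroup.orderOf_mk w hwP]
    exact orderOf_dvd_natCard _
  have hsub : Subsingleton {K : Subgroup ↥P // Nat.card K = p ^ 1} :=
    (Nat.card_eq_one_iff_unique.1 hcard).1
  have huP : x ^ p ^ (a - 1) ∈ P := P.pow_mem hxP _
  have hK1 : Nat.card (Subgroup.zpowers (⟨x ^ p ^ (a - 1), huP⟩ : P)) = p ^ 1 := by
    rw [Nat.card_zpowers, Subgroup.orderOf_mk, hu, pow_one]
  have hK2 : Nat.card (Subgroup.zpowers (⟨w, hwP⟩ : P)) = p ^ 1 := by
    rw [Nat.card_zpowers, Subgroup.orderOf_mk, hw, pow_one]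
  have heq : Subgroup.zpowers (⟨x ^ p ^ (a - 1), huP⟩ : P) = Subgroup.zpowers (⟨w, hwP⟩ : P) :=
    congrArg Subtype.val
      (Subsingleton.elim (⟨_, hK1⟩ : {K : Subgroup ↥P // Nat.card K = p ^ 1}) ⟨_, hK2⟩)
  have hmem : (⟨w, hwP⟩ : P) ∈ Subgroup.zpowers (⟨x ^ p ^ (a - 1), huP⟩ : P) := by
    rw [heq]; exact Subgroup.mem_zpowers _
  obtain ⟨n, hn⟩ := Subgroup.mem_zpowers_iff.1 hmem
  have hn' : (x ^ p ^ (a - 1)) ^ n = w := by
    have h0 := congrArg Subtype.val hn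
    rwa [Subgroup.coe_zpow] at h0
  rw [← hn']
  exact Subgroup.zpow_mem _ (Subgroup.pow_mem _ (Subgroup.mem_zpowers x) _) n

end Cfsg.Agent.Helper21
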