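import Mathlib

set_option autoImplicit false

namespace Cfsg.Agent.Helper21

/-- The index of an element of the dihedral group. -/
def dihIdx {n : ℕ} : DihedralGroup n → ZMod n
  | DihedralGroup.r i => i
  | DihedralGroup.sr i => i

/-- The "even" subgroup of the dihedral group `D_n`, `n` even. -/
def dihEven (n : ℕ) (h2 : 2 ∣ n) : Subgroup (DihedralGroup n) where
  carrier := {g | ZMod.castHom h2 (ZMod 2) (dihIdx g) = 0}
  mul_mem' := by
    rintro (a | a) (b | b) ha hb
    all_goals
      simp only [Set.mem_setOf_eq, dihIdx] at ha hb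
      simp only [Set.mem_setOf_eq, DihedralGroup.r_mul_r, DihedralGroup.r_mul_sr,
        DihedralGroup.sr_mul_r, DihedralGroup.sr_mul_sr, dihIdx, map_add, map_sub, ha, hb]
      simp
  one_mem' := by
    show ZMod.castHom h2 (ZMod 2) (dihIdx (1 : DihedralGroup n)) = 0
    rw [DihedralGroup.one_def]
    simp [dihIdx]
  inv_mem' := by
    rintro (a | a) ha
    all_goals
      simp only [Set.mem_setOf_eq, dihIdx] at ha
      simp only [Set.mem_setOf_eq, DihedralGroup.inv_r, DihedralGroup.inv_sr, dihIdx, map_neg, ha]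
      try simp

theorem r_mem_dihEven {n : ℕ} (h2 : 2 ∣ n) (i : ZMod n) :
    DihedralGroup.r i ∈ dihEven n h2 ↔ ZMod.castHom h2 (ZMod 2) i = 0 := Iff.rfl

theorem sr_mem_dihEven {n : ℕ} (h2 : 2 ∣ n) (i : ZMod n) :
    DihedralGroup.sr i ∈ dihEven n h2 ↔ ZMod.castHom h2 (ZMod 2) i = 0 := Iff.rfl

end Cfsg.Agent.Helper21
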