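import Mathlib
import Cfsg.Prelude.Def_Classical

/-!
Glue lemmas between quadratic forms with nondegenerate polar form on `Fin n → F` and symmetric
invertible Gram matrices (for S2583).
-/

set_option autoImplicit false

namespace Cfsg.Agent.Helper21

open Matrix

/-- A quadratic form with nondegenerate polar form has a symmetric invertible Gram matrix which is
preserved by every element of its isometry group. -/
theorem jg21_quad_gram {F : Type*} [Field F] {n : ℕ} (Q : QuadraticForm F (Fin n → F))
    (hQ : (QuadraticMap.polarBilin Q).Nondegenerate) :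
    ∃ P : Matrix (Fin n) (Fin n) F, Pᵀ = P ∧ P.det ≠ 0 ∧
      ∀ g : Matrix.GeneralLinearGroup (Fin n) F, g ∈ Cfsg.isometryGroup F ⇑Q →
        (g : Matrix (Fin n) (Fin n) F)ᵀ * P * (g : Matrix (Fin n) (Fin n) F) = P := by
  classical
  refine ⟨LinearMap.BilinForm.toMatrix' (QuadraticMap.polarBilin Q), ?_, ?_, ?_⟩
  · ext i j
    simp only [Matrix.transpose_apply, LinearMap.BilinForm.toMatrix'_apply,
      QuadraticMap.polarBilin_apply_apply]
    exact QuadraticMap.polar_comm _ _ _
  · rw [← Matrix.nondegenerate_iff_det_ne_zero]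
    exact LinearMap.BilinForm.nondegenerate_toMatrix'_iff.mpr hQ
  · intro g hg
    have h1 : ∀ u : Fin n → F, Q ((g : Matrix (Fin n) (Fin n) F) *ᵥ u) = Q u := fun u => hg u u
    have h2 : LinearMap.BilinForm.comp (QuadraticMap.polarBilin Q)
        (Matrix.toLin' (g : Matrix (Fin n) (Fin n) F))
        (Matrix.toLin' (g : Matrix (Fin n) (Fin n) F)) = QuadraticMap.polarBilin Q := by
      apply LinearMap.ext₂
      intro u w
      simp only [LinearMap.BilinForm.comp_apply, Matrix.toLin'_apply,
        QuadraticMap.polarBilin_apply_apply, QuadraticMap.polar, ← Matrix.mulVec_add, h1]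
    have h3 := congrArg LinearMap.BilinForm.toMatrix' h2
    rw [LinearMap.BilinForm.toMatrix'_comp] at h3
    simpa using h3

/-- A symmetric invertible matrix `M` (characteristic not two) is, up to the factor two, the Gram
matrix of the polar form of a quadratic form whose isometry group contains every `A` with
`Aᵀ * M * A = M`. -/
theorem jg21_gram_quad {F : Type*} [Field F] (h2 : (2 : F) ≠ 0) {n : ℕ}
    (M A : Matrix (Fin n) (Fin n) F) (hM : Mᵀ = M) (hdet : M.det ≠ 0) (hA : Aᵀ * M * A = M) :
    ∃ Q : QuadraticForm F (Fin n → F), (QuadraticMap.polarBilin Q).Nondegenerate ∧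
      ∃ g : ↥(Cfsg.isometryGroup F ⇑Q),
        ((g : Matrix.GeneralLinearGroup (Fin n) F) : Matrix (Fin n) (Fin n) F) = A := by
  classical
  have hAdet : A.det ≠ 0 := by
    intro h0
    apply hdet
    rw [← hA, Matrix.det_mul, h0, mul_zero]
  refine ⟨LinearMap.BilinMap.toQuadraticMap (Matrix.toBilin' M), ?_, ?_⟩
  · rw [LinearMap.BilinMap.polarBilin_toQuadraticMap]
    have hfl : Matrix.toBilin' M + LinearMap.flip (Matrix.toBilin' M)
        = Matrix.toBilin' ((2 : F) • M) := by
      apply LinearMap.ext₂
      intro v w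
      have hsw : w ⬝ᵥ M *ᵥ v = v ⬝ᵥ M *ᵥ w := by
        rw [Matrix.dotProduct_mulVec, dotProduct_comm, ← Matrix.mulVec_transpose, hM]
      simp only [LinearMap.add_apply, LinearMap.flip_apply, Matrix.toBilin'_apply',
        Matrix.smul_mulVec, dotProduct_smul, smul_eq_mul, hsw]
      ring
    rw [hfl]
    refine LinearMap.BilinForm.nondegenerate_toBilin'_iff_det_ne_zero.mpr ?_
    rw [Matrix.det_smul]
    exact mul_ne_zero (pow_ne_zero _ h2) hdet
  · refine ⟨⟨Matrix.GeneralLinearGroup.mkOfDetNeZero A hAdet, ?_⟩, rfl⟩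
    intro u _
    show (LinearMap.BilinMap.toQuadraticMap (Matrix.toBilin' M)) (A *ᵥ u)
      = (LinearMap.BilinMap.toQuadraticMap (Matrix.toBilin' M)) u
    simp only [LinearMap.BilinMap.toQuadraticMap_apply, Matrix.toBilin'_apply']
    conv_rhs => rw [← hA]
    rw [← Matrix.mulVec_mulVec, ← Matrix.mulVec_mulVec, Matrix.dotProduct_mulVec u,
      Matrix.vecMul_transpose]

end Cfsg.Agent.Helper21
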