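import Mathlib
import Cfsg.Prelude.Def_Classical
import Cfsg.Prelude.Def_JordanBlocks
import Cfsg.Agent.Helper21.JordGlue
import Cfsg.Agent.Helper2.JordOrth
import Cfsg.Agent.Helper17.JordOrth
import Cfsg.Agent.Helper7.JordOrth
import Cfsg.Agent.Helper29.JordOrth

/-!
Forward direction of S2583: a unipotent Jordan type that is similar to an isometry of a quadratic
form with nondegenerate polar form (characteristic not two) has every even block size an even
number of times.  Assembled from the sprint parts P1 (Helper2), P2 (Helper17), P3 (Helper7),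
P4 (Helper29) and the Gram-matrix glue `jg21_quad_gram`.
-/

set_option autoImplicit false

namespace Cfsg.Agent.Helper21

open Matrix

theorem jf21_eq_zero_of_rank {F : Type*} [Field F] {m : Type*} [Fintype m] [DecidableEq m]
    (M : Matrix m m F) (h : M.rank = 0) : M = 0 := by
  have h1 : LinearMap.range M.mulVecLin = ⊥ := Submodule.finrank_eq_zero.1 h
  have h2 : M.mulVecLin = 0 := LinearMap.range_eq_bot.1 h1
  ext i j
  have h3 := congrArg (fun f => f (Pi.single j 1) i) h2
  simpa using h3

/-- Conjugate matrices (after reindexing) have the same ranks of powers of `X - 1`. -/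
theorem jf21_rank_conj {F : Type*} [Field F] {n : ℕ} {ι : Type*} [Fintype ι] [DecidableEq ι]
    (e : ι ≃ Fin n) (J : Matrix ι ι F) (A : Matrix (Fin n) (Fin n) F)
    (hconj : IsConj (Matrix.reindex e e J) A) (k : ℕ) :
    ((A - 1) ^ k).rank = ((J - 1) ^ k).rank := by
  obtain ⟨c, hc⟩ := hconj
  have hc' : (c : Matrix (Fin n) (Fin n) F) * Matrix.reindex e e J
      = A * (c : Matrix (Fin n) (Fin n) F) := hc
  have hφ : Matrix.reindex e e J = Matrix.reindexAlgEquiv F F e J :=
    (Matrix.reindexAlgEquiv_apply F F e J).symm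
  have hs : SemiconjBy (c : Matrix (Fin n) (Fin n) F) (Matrix.reindexAlgEquiv F F e (J - 1))
      (A - 1) := by
    show (c : Matrix (Fin n) (Fin n) F) * Matrix.reindexAlgEquiv F F e (J - 1)
      = (A - 1) * (c : Matrix (Fin n) (Fin n) F)
    rw [map_sub, map_one, ← hφ, Matrix.mul_sub, Matrix.sub_mul, hc', Matrix.mul_one,
      Matrix.one_mul]
  have hp := hs.pow_right k
  have hp' : (c : Matrix (Fin n) (Fin n) F) * Matrix.reindexAlgEquiv F F e ((J - 1) ^ k)
      = (A - 1) ^ k * (c : Matrix (Fin n) (Fin n) F) := by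
    rw [map_pow]
    exact hp
  have hcu : IsUnit (c : Matrix (Fin n) (Fin n) F).det :=
    (Matrix.isUnit_iff_isUnit_det _).1 c.isUnit
  rw [← Matrix.rank_mul_eq_left_of_isUnit_det (c : Matrix (Fin n) (Fin n) F) ((A - 1) ^ k) hcu,
    ← hp', Matrix.rank_mul_eq_right_of_isUnit_det _ _ hcu, Matrix.reindexAlgEquiv_apply,
    Matrix.rank_reindex]

/-- Forward direction of S2583. -/
theorem jf21_forward {F : Type*} [Field F] (h2 : (2 : F) ≠ 0) {n t : ℕ} (d : Fin t → ℕ)
    (hsum : ∑ k, d k = n)
    (h : ∃ Q : QuadraticForm F (Fin n → F), (QuadraticMap.polarBilin Q).Nondegenerate ∧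
      ∃ e : ((k : Fin t) × Fin (d k)) ≃ Fin n, ∃ A : ↥(Cfsg.isometryGroup F ⇑Q),
        IsConj (Matrix.reindex e e (Cfsg.jordanTypeMatrix d F))
          ((A : Matrix.GeneralLinearGroup (Fin n) F) : Matrix (Fin n) (Fin n) F)) :
    ∀ j : ℕ, Even j → 0 < j → Even (Finset.univ.filter (fun k : Fin t => d k = j)).card := by
  classical
  obtain ⟨Q, hQ, e, A, hconj⟩ := h
  obtain ⟨P, hP, hPdet, hiso⟩ := jg21_quad_gram Q hQ
  have hA := hiso A A.2
  have hr : ∀ k, ((((A : Matrix.GeneralLinearGroup (Fin n) F) : Matrix (Fin n) (Fin n) F) - 1) ^ k).rank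
      = ∑ i, (d i - k) := by
    intro k
    rw [jf21_rank_conj e _ _ hconj k]
    exact Cfsg.Agent.Helper2.jordanType_rank d k
  have hnil : (((A : Matrix.GeneralLinearGroup (Fin n) F) : Matrix (Fin n) (Fin n) F) - 1) ^ n = 0 := by
    apply jf21_eq_zero_of_rank
    rw [hr n]
    apply Finset.sum_eq_zero
    intro i _
    have hle : d i ≤ ∑ k, d k := Finset.single_le_sum (f := d) (fun _ _ => Nat.zero_le _)
      (Finset.mem_univ i)
    omega
  have hev : ∀ k, Odd k → Even (∑ i, (d i - k)) := by
    intro k hk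
    rw [← hr k]
    exact Cfsg.Agent.Helper7.unip_isometry_rank_even h2
      (fun S hS => Cfsg.Agent.Helper17.rank_even_of_skew h2 S hS) _ P hP hPdet hA hnil k hk
  exact Cfsg.Agent.Helper29.count_even_of_rank_even d hev

end Cfsg.Agent.Helper21
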