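import Mathlib
import Cfsg.Agent.Helper21.BlockRank

set_option autoImplicit false

namespace Cfsg.Agent.Helper21

open Matrix

theorem jo21_aux {F : Type*} [Field F]
    (hodd : ∀ d, Odd d → ∃ A M : Matrix (Fin d) (Fin d) F, Mᵀ = M ∧ M.det ≠ 0 ∧
      Aᵀ * M * A = M ∧ ∀ k, ((A - 1) ^ k).rank = d - k)
    (hpair : ∀ d, ∃ A M : Matrix (Fin d ⊕ Fin d) (Fin d ⊕ Fin d) F, Mᵀ = M ∧ M.det ≠ 0 ∧
      Aᵀ * M * A = M ∧ ∀ k, ((A - 1) ^ k).rank = (d - k) + (d - k)) :
    ∀ (n : ℕ) (s : Multiset ℕ), Multiset.card s = n → (∀ j, Even j → Even (s.count j)) →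
      ∃ (κ : Type) (_ : Fintype κ) (_ : DecidableEq κ) (A M : Matrix κ κ F),
        Mᵀ = M ∧ M.det ≠ 0 ∧ Aᵀ * M * A = M ∧ Fintype.card κ = s.sum ∧
          ∀ k, ((A - 1) ^ k).rank = (s.map (fun a => a - k)).sum := by
  intro n
  induction n using Nat.strong_induction_on with
  | _ n ih =>
    intro s hn hpar
    by_cases hs : s = 0
    · subst hs
      refine ⟨Fin 0, inferInstance, inferInstance, 1, 1, Matrix.transpose_one, ?_, ?_, ?_, ?_⟩
      · rw [Matrix.det_one]
        exact one_ne_zero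
      · simp
      · simp
      · intro k
        have h := Matrix.rank_le_card_width ((1 - 1 : Matrix (Fin 0) (Fin 0) F) ^ k)
        rw [Multiset.map_zero, Multiset.sum_zero]
        exact Nat.le_zero.1 (by simpa using h)
    · obtain ⟨a, ha⟩ := Multiset.exists_mem_of_ne_zero hs
      by_cases hao : Odd a
      · obtain ⟨s', hs'⟩ := Multiset.exists_cons_of_mem ha
        subst hs'
        have hpar' : ∀ j, Even j → Even (s'.count j) := by
          intro j hj
          have h := hpar j hj
          have hne : j ≠ a := by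
            rintro rfl
            exact (Nat.not_even_iff_odd.2 hao) hj
          rwa [Multiset.count_cons_of_ne hne] at h
        have hlt : Multiset.card s' < n := by
          rw [← hn, Multiset.card_cons]
          omega
        obtain ⟨κ', fκ, dκ, A', M', h1, h2, h3, h4, h5⟩ := ih _ hlt s' rfl hpar'
        obtain ⟨A₁, M₁, g1, g2, g3, g4⟩ := hodd a hao
        have hc := br21_combine A₁ M₁ A' M' g1 h1 g2 h2 g3 h3
        refine ⟨Fin a ⊕ κ', inferInstance, inferInstance, Matrix.fromBlocks A₁ 0 0 A',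
          Matrix.fromBlocks M₁ 0 0 M', hc.1, hc.2.1, hc.2.2.1, ?_, ?_⟩
        · rw [Fintype.card_sum, Fintype.card_fin, h4, Multiset.sum_cons]
        · intro k
          rw [hc.2.2.2 k, g4 k, h5 k, Multiset.map_cons, Multiset.sum_cons]
      · have hae : Even a := Nat.not_odd_iff_even.1 hao
        have hpos : 0 < s.count a := Multiset.count_pos.2 ha
        have hcnt : 2 ≤ s.count a := by
          obtain ⟨r, hr⟩ := hpar a hae
          omega
        obtain ⟨s₁, hs₁⟩ := Multiset.exists_cons_of_mem ha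
        subst hs₁
        rw [Multiset.count_cons_self] at hcnt
        have ha₁ : a ∈ s₁ := Multiset.count_pos.1 (by omega)
        obtain ⟨s₂, hs₂⟩ := Multiset.exists_cons_of_mem ha₁
        subst hs₂
        have hpar₂ : ∀ j, Even j → Even (s₂.count j) := by
          intro j hj
          have h := hpar j hj
          by_cases hja : j = a
          · subst hja
            rw [Multiset.count_cons_self, Multiset.count_cons_self] at h
            obtain ⟨r, hr⟩ := h
            exact ⟨r - 1, by omega⟩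
          · rwa [Multiset.count_cons_of_ne hja, Multiset.count_cons_of_ne hja] at h
        have hlt : Multiset.card s₂ < n := by
          rw [← hn, Multiset.card_cons, Multiset.card_cons]
          omega
        obtain ⟨κ', fκ, dκ, A', M', h1, h2, h3, h4, h5⟩ := ih _ hlt s₂ rfl hpar₂
        obtain ⟨A₂, M₂, g1, g2, g3, g4⟩ := hpair a
        have hc := br21_combine A₂ M₂ A' M' g1 h1 g2 h2 g3 h3
        refine ⟨(Fin a ⊕ Fin a) ⊕ κ', inferInstance, inferInstance, Matrix.fromBlocks A₂ 0 0 A',
          Matrix.fromBlocks M₂ 0 0 M', hc.1, hc.2.1, hc.2.2.1, ?_, ?_⟩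
        · rw [Fintype.card_sum, Fintype.card_sum, Fintype.card_fin, h4, Multiset.sum_cons,
            Multiset.sum_cons]
          omega
        · intro k
          rw [hc.2.2.2 k, g4 k, h5 k, Multiset.map_cons, Multiset.map_cons, Multiset.sum_cons,
            Multiset.sum_cons]
          omega

theorem exists_of_blocks {F : Type*} [Field F] (s : Multiset ℕ)
    (hpar : ∀ j, Even j → Even (s.count j))
    (hodd : ∀ d, Odd d → ∃ A M : Matrix (Fin d) (Fin d) F, Mᵀ = M ∧ M.det ≠ 0 ∧
      Aᵀ * M * A = M ∧ ∀ k, ((A - 1) ^ k).rank = d - k)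
    (hpair : ∀ d, ∃ A M : Matrix (Fin d ⊕ Fin d) (Fin d ⊕ Fin d) F, Mᵀ = M ∧ M.det ≠ 0 ∧
      Aᵀ * M * A = M ∧ ∀ k, ((A - 1) ^ k).rank = (d - k) + (d - k)) :
    ∃ (κ : Type) (_ : Fintype κ) (_ : DecidableEq κ) (A M : Matrix κ κ F),
      Mᵀ = M ∧ M.det ≠ 0 ∧ Aᵀ * M * A = M ∧ Fintype.card κ = s.sum ∧
        ∀ k, ((A - 1) ^ k).rank = (s.map (fun a => a - k)).sum :=
  jo21_aux hodd hpair (Multiset.card s) s rfl hpar

end Cfsg.Agent.Helper21
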