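import Mathlib
import Cfsg.Agent.S0142
import Cfsg.Agent.S0144
import Cfsg.Agent.Helper2.CharLinear
import Cfsg.Agent.Helper2.CharBound
import Cfsg.Agent.Helper2.CharComplete
import Cfsg.Agent.Helper2.CharRep
import Cfsg.Agent.Helper6.PowCongr
import Cfsg.Agent.Helper24.CharBasic
import Cfsg.Agent.Helper25.BlockOrth2
import Cfsg.Agent.Helper25.BlockPPrime
import Cfsg.Agent.Helper21.Primary

set_option autoImplicit false
set_option linter.style.haveILetI false

/-!
# Kazarin's theorem (helper21)

If the conjugacy class of `x` has prime-power size `p ^ k`, then the normal closure of `x` is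
solvable.  The key step: for a prime `r ≠ p` dividing `|G|` and not dividing the order of `x`,
the principal `r`-block contains a nontrivial irreducible character of degree prime to `p`
(block orthogonality against an element of order `r`); Burnside's lemma makes `x` act as a
scalar, the block condition makes this scalar congruent to `1` modulo `r`, hence equal to `1`,
so `x` lies in a proper normal subgroup.  When no such `r` exists the group order is
`p ^ a * q ^ b` and Burnside's two-prime theorem applies.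
-/

universe u

namespace Cfsg.Agent.Helper21

open Cfsg Cfsg.Agent.Helper25
open scoped ComplexConjugate

/-- `1 / p` is not an algebraic integer. -/
theorem kaz_not_integral {p : ℕ} (hp : p.Prime) : ¬ IsIntegral ℤ ((1 : ℂ) / (p : ℂ)) := by
  intro h
  have h1 : IsIntegral ℤ ((algebraMap ℚ ℂ) ((1 : ℚ) / (p : ℚ))) := by
    have h0 : (algebraMap ℚ ℂ) ((1 : ℚ) / (p : ℚ)) = (1 : ℂ) / (p : ℂ) := by
      simp
    rw [h0]; exact h
  have h2 : IsIntegral ℤ ((1 : ℚ) / (p : ℚ)) :=
    (isIntegral_algebraMap_iff (algebraMap ℚ ℂ).injective).1 h1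
  obtain ⟨y, hy⟩ := IsIntegrallyClosed.isIntegral_iff.1 h2
  have hp0 : (p : ℚ) ≠ 0 := by exact_mod_cast hp.ne_zero
  have h3 : (y : ℚ) * (p : ℚ) = 1 := by
    have h4 : (algebraMap ℤ ℚ y) = (y : ℚ) := rfl
    rw [← h4, hy]
    field_simp
  have h4 : y * (p : ℤ) = 1 := by exact_mod_cast h3
  have h5 : (p : ℤ) ∣ 1 := Dvd.intro_left y h4
  have h6 : p ∣ 1 := by exact_mod_cast h5
  exact hp.one_lt.ne' (Nat.dvd_one.1 h6)

/-- The principal `r`-block of a group of order divisible by `r` contains a nontrivial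
irreducible character whose degree is not divisible by `p`. -/
theorem kaz_exists_char {G : Type*} [Group G] [Finite G] {p r : ℕ} (hp : p.Prime)
    {M : Ideal AlgInt} (hrM : IsPModular r M) (hrG : r ∣ Nat.card G) :
    ∃ χ : IrrCharacter G, χ ∈ principalBlock M G ∧ (χ : G → ℂ) ≠ (fun _ => (1 : ℂ)) ∧
      ∀ m : ℕ, (χ : G → ℂ) 1 ≠ (p : ℂ) * (m : ℂ) := by
  classical
  have := Fintype.ofFinite G
  have := Helper24.finite_irrCharacter (G := G)
  have := Fintype.ofFinite (IrrCharacter G)
  have hr := hrM.1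
  haveI : Fact r.Prime := ⟨hr⟩
  obtain ⟨w, hw⟩ := exists_prime_orderOf_dvd_card' r hrG
  have hB : IsPBlock M (principalBlock M G) := ⟨oneIrr G, rfl⟩
  have horth := block_orthogonality hrM hB 1 w (by rw [orderOf_one]; exact hr.not_dvd_one)
    (by rw [hw])
  rw [finsum_mem_eq_sum_ite] at horth
  by_contra hcon
  push Not at hcon
  have hone : oneIrr G ∈ principalBlock M G := mem_blockOf_self hrM.2.1.ne_top (oneIrr G)
  have hsplit : (if oneIrr G ∈ principalBlock M G then
      (oneIrr G : G → ℂ) 1 * conj ((oneIrr G : G → ℂ) w) else 0) +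
      ∑ χ ∈ Finset.univ.erase (oneIrr G), (if χ ∈ principalBlock M G then
        (χ : G → ℂ) 1 * conj ((χ : G → ℂ) w) else 0) = 0 := by
    exact (Finset.add_sum_erase Finset.univ
      (fun χ : IrrCharacter G => if χ ∈ principalBlock M G then
        (χ : G → ℂ) 1 * conj ((χ : G → ℂ) w) else 0) (Finset.mem_univ (oneIrr G))).trans horth
  have hf1 : (if oneIrr G ∈ principalBlock M G then
      (oneIrr G : G → ℂ) 1 * conj ((oneIrr G : G → ℂ) w) else 0) = 1 := by
    rw [if_pos hone, oneIrr_apply, oneIrr_apply]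
    simp
  rw [hf1] at hsplit
  have hp0 : (p : ℂ) ≠ 0 := by exact_mod_cast hp.ne_zero
  have hint : ∀ χ ∈ Finset.univ.erase (oneIrr G),
      IsIntegral ℤ ((if χ ∈ principalBlock M G then
        (χ : G → ℂ) 1 * conj ((χ : G → ℂ) w) else 0) / (p : ℂ)) := by
    intro χ hχ
    have hne : χ ≠ oneIrr G := (Finset.mem_erase.1 hχ).1
    by_cases hχB : χ ∈ principalBlock M G
    · rw [if_pos hχB]
      have hne' : (χ : G → ℂ) ≠ (fun _ => (1 : ℂ)) := fun h => hne (Subtype.ext h)
      obtain ⟨m, hm⟩ := hcon χ hχB hne'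
      rw [hm, mul_assoc, mul_div_cancel_left₀ _ hp0]
      exact IsIntegral.mul (isIntegral_natCast m)
        (map_isIntegral_int (starRingEnd ℂ)
          (Helper2.IsCharacter.isIntegral (Helper24.isCharacter_of_irr χ.2) w))
    · rw [if_neg hχB, zero_div]
      exact isIntegral_zero
  have hsum := IsIntegral.sum (R := ℤ) _ hint
  rw [← Finset.sum_div] at hsum
  have h2 : (∑ χ ∈ Finset.univ.erase (oneIrr G), (if χ ∈ principalBlock M G then
      (χ : G → ℂ) 1 * conj ((χ : G → ℂ) w) else 0)) = -1 := by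
    linear_combination hsplit
  rw [h2] at hsum
  apply kaz_not_integral hp
  have h3 : (1 : ℂ) / (p : ℂ) = -((-1 : ℂ) / (p : ℂ)) := by ring
  rw [h3]
  exact hsum.neg

/-- The key step of Kazarin's theorem: an element with class size `p ^ k` lies in a proper
normal subgroup as soon as some prime `r ≠ p` divides the group order but not its order. -/
theorem kaz_kernel {G : Type*} [Group G] [Finite G] (x : G) {p r : ℕ} (hp : p.Prime)
    (hr : r.Prime) (hrp : r ≠ p) (hrG : r ∣ Nat.card G) (k : ℕ)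
    (hx : (Subgroup.centralizer ({x} : Set G)).index = p ^ k) (hrx : ¬ r ∣ orderOf x) :
    ∃ K : Subgroup G, K.Normal ∧ K ≠ ⊤ ∧ x ∈ K := by
  classical
  have := Fintype.ofFinite G
  obtain ⟨M, hrM⟩ := Helper6.PowCongr.exists_pModular r hr
  have hM : M.IsPrime := hrM.2.1.isPrime
  obtain ⟨χ, hχB, hχne, hχp⟩ := kaz_exists_char (G := G) hp hrM hrG
  obtain ⟨n, ρ, hirr, hρ⟩ := χ.2
  haveI := hirr
  have hfin : Module.finrank ℂ (Fin n → ℂ) = n := by simp
  have hχ1 : (χ : G → ℂ) 1 = (n : ℂ) := by
    rw [← hρ, Representation.char_one ρ, hfin]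
  have hpn : ¬ p ∣ n := by
    rintro ⟨m, rfl⟩
    exact hχp m (by rw [hχ1]; push_cast; ring)
  have hn0 : n ≠ 0 := by rintro rfl; exact hpn (dvd_zero p)
  have hnC : (n : ℂ) ≠ 0 := by exact_mod_cast hn0
  have hblk : MemLocalIdeal M
      (centralChar (fun _ : G => (1 : ℂ)) x - centralChar (χ : G → ℂ) x) := hχB x
  have hc1 : centralChar (fun _ : G => (1 : ℂ)) x = ((p ^ k : ℕ) : ℂ) := by
    unfold centralChar; rw [hx]; simp
  have hc2 : centralChar (χ : G → ℂ) x = ((p ^ k : ℕ) : ℂ) * ((χ : G → ℂ) x / n) := by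
    unfold centralChar; rw [hx, hχ1, mul_div_assoc]
  have hpk : ¬ MemLocalIdeal M (((p ^ k : ℕ) : ℂ)) := by
    rw [memLocalIdeal_natCast_iff hrM]
    intro h
    exact hrp ((Nat.prime_dvd_prime_iff_eq hr hp).1 (hr.dvd_of_dvd_pow h))
  have hne0 : ρ.character x ≠ 0 := by
    intro h0
    have h0' : (χ : G → ℂ) x = 0 := by rw [← hρ]; exact h0
    rw [hc1, hc2, h0', zero_div, mul_zero, sub_zero] at hblk
    exact hpk hblk
  have hcop : Nat.Coprime (Module.finrank ℂ (Fin n → ℂ))
      (Subgroup.centralizer ({x} : Set G)).index := by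
    rw [hfin, hx]
    exact Nat.Coprime.pow_right k ((Nat.Prime.coprime_iff_not_dvd hp).2 hpn).symm
  rcases Cfsg.Agent.S0142.result ρ x hcop with h | h
  · exact absurd h hne0
  obtain ⟨ω, hω, hω2⟩ := Helper2.character_scalar_of_norm_eq ρ x h
  rw [hfin] at hω2
  have hNpos : 0 < orderOf x := orderOf_pos x
  have hωN : ω ^ orderOf x = 1 := by
    have h1 : (ρ x) ^ orderOf x = 1 := by rw [← map_pow, pow_orderOf_eq_one, map_one]
    rw [hω, smul_pow, one_pow] at h1
    have h2 := congrArg (LinearMap.trace ℂ (Fin n → ℂ)) h1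
    rw [map_smul, LinearMap.trace_one, hfin, smul_eq_mul] at h2
    have h3 : ω ^ orderOf x * (n : ℂ) = 1 * (n : ℂ) := by rw [one_mul]; exact h2
    exact mul_right_cancel₀ hnC h3
  have hωint : IsIntegral ℤ ω := IsIntegral.of_pow hNpos (by rw [hωN]; exact isIntegral_one)
  obtain ⟨ωA, hωA⟩ : ∃ ωA : AlgInt, (ωA : ℂ) = ω := ⟨⟨ω, hωint⟩, rfl⟩
  have hmem : (1 - ωA) ∈ M := by
    have hχx : (χ : G → ℂ) x = n * ω := by rw [← hρ]; exact hω2.symm
    rw [hc1, hc2, hχx, mul_div_cancel_left₀ _ hnC] at hblk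
    have h1 : ((p ^ k : ℕ) : ℂ) - ((p ^ k : ℕ) : ℂ) * ω
        = ((p ^ k : ℕ) : ℂ) * ((1 - ωA : AlgInt) : ℂ) := by
      push_cast; rw [hωA]; ring
    rw [h1] at hblk
    rcases MemLocalIdeal.of_mul hM (memLocalRing_natCast hM.ne_top _) hblk with h | h
    · exact absurd h hpk
    · exact (memLocalIdeal_coe_iff hM _).1 h
  have hω1 : ω = 1 := by
    by_contra hne
    have hgeom : ∑ i ∈ Finset.range (orderOf x), ω ^ i = 0 := by
      have h1 := mul_geom_sum ω (orderOf x)
      rw [hωN, sub_self] at h1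
      rcases mul_eq_zero.1 h1 with h | h
      · exact absurd (sub_eq_zero.1 h) hne
      · exact h
    have hgeomA : ∑ i ∈ Finset.range (orderOf x), ωA ^ i = 0 := by
      apply Subtype.ext
      push_cast
      rw [hωA]
      exact hgeom
    have hq : (Ideal.Quotient.mk M) ωA = 1 := by
      rw [← map_one (Ideal.Quotient.mk M)]
      apply Ideal.Quotient.eq.2
      have h1 := M.neg_mem hmem
      rwa [neg_sub] at h1
    have h2 := congrArg (Ideal.Quotient.mk M) hgeomA
    rw [map_sum, map_zero] at h2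
    simp only [map_pow, hq, one_pow, Finset.sum_const, Finset.card_range, nsmul_eq_mul,
      mul_one] at h2
    have h3 : ((orderOf x : ℕ) : AlgInt) ∈ M := by
      rw [← Ideal.Quotient.eq_zero_iff_mem, map_natCast]; exact h2
    exact hrx ((natCast_mem_iff hrM (orderOf x)).1 h3)
  refine ⟨MonoidHom.ker ρ, MonoidHom.normal_ker ρ, ?_, ?_⟩
  · intro htop
    apply hχne
    have h1 : ∀ g : G, ρ g = 1 := by
      intro g
      have h0 : g ∈ MonoidHom.ker ρ := by rw [htop]; trivial
      exact MonoidHom.mem_ker.1 h0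
    have h2 : ρ.character = fun _ => (n : ℂ) := by
      funext g
      show LinearMap.trace ℂ _ (ρ g) = _
      rw [h1 g, LinearMap.trace_one]
      simp
    have h3 := Helper2.classInner_irr (Helper2.isIrrCharacter_of_rep ρ)
      (Helper2.isIrrCharacter_of_rep ρ)
    rw [if_pos rfl, h2] at h3
    unfold classInner at h3
    have hG0 : (Nat.card G : ℂ) ≠ 0 := by exact_mod_cast Nat.card_pos.ne'
    simp only [Complex.conj_natCast, Finset.sum_const, Finset.card_univ, nsmul_eq_mul,
      ← Nat.card_eq_fintype_card] at h3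
    rw [← mul_assoc, inv_mul_cancel₀ hG0, one_mul] at h3
    have h4 : n * n = 1 := by exact_mod_cast h3
    have h5 : n = 1 := Nat.eq_one_of_mul_eq_one_right h4
    rw [← hρ, h2, h5]
    simp
  · rw [MonoidHom.mem_ker, hω, hω1, one_smul]

/-- For a normal subgroup `K`, the index `|K : C ∩ K|` divides `|G : C|`. -/
theorem kaz_relIndex_dvd {G : Type*} [Group G] [Finite G] (C K : Subgroup G) [K.Normal] :
    C.relIndex K ∣ C.index := by
  obtain ⟨m, hm⟩ := Subgroup.relIndex_dvd_index_of_normal K C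
  have h1 := Subgroup.relIndex_mul_relIndex (⊥ : Subgroup G) (C ⊓ K) K bot_le inf_le_right
  have h2 := Subgroup.relIndex_mul_relIndex (⊥ : Subgroup G) (C ⊓ K) C bot_le inf_le_left
  rw [Subgroup.relIndex_bot_left, Subgroup.inf_relIndex_right, Subgroup.relIndex_bot_left] at h1
  rw [Subgroup.relIndex_bot_left, Subgroup.inf_relIndex_left, Subgroup.relIndex_bot_left] at h2
  have h3 := Subgroup.card_mul_index K
  have h4 := Subgroup.card_mul_index C
  refine ⟨m, ?_⟩
  have hpos : 0 < Nat.card C := Nat.card_pos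
  apply Nat.eq_of_mul_eq_mul_left hpos
  rw [h4, ← h3, ← h1, hm, ← h2]
  ring

/-- The class size of an element of a normal subgroup `K`, taken inside `K`, divides its class
size in `G`. -/
theorem kaz_centralizer_index_dvd {G : Type*} [Group G] [Finite G] (K : Subgroup G) [K.Normal]
    (y : K) :
    (Subgroup.centralizer ({y} : Set K)).index ∣
      (Subgroup.centralizer ({(y : G)} : Set G)).index := by
  have h : Subgroup.centralizer ({y} : Set K)
      = (Subgroup.centralizer ({(y : G)} : Set G)).subgroupOf K := by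
    ext z
    rw [Subgroup.mem_subgroupOf, Subgroup.mem_centralizer_singleton_iff,
      Subgroup.mem_centralizer_singleton_iff, Subtype.ext_iff]
    rfl
  rw [h]
  exact kaz_relIndex_dvd _ K

/-- The join of a normal solvable subgroup with a solvable subgroup is solvable. -/
theorem kaz_sup_solvable {G : Type*} [Group G] (A B : Subgroup G) [hAn : A.Normal]
    (hA : Group.IsSolvable A) (hB : Group.IsSolvable B) : Group.IsSolvable ↥(A ⊔ B) := by
  let f : ↥A →* ↥(A ⊔ B) := Subgroup.inclusion le_sup_left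
  let g : ↥(A ⊔ B) →* G ⧸ A := (QuotientGroup.mk' A).comp (A ⊔ B).subtype
  let h : ↥B →* ↥g.range := (g.rangeRestrict).comp (Subgroup.inclusion le_sup_right)
  have hsurj : Function.Surjective h := by
    rintro ⟨_, ⟨z, rfl⟩⟩
    have hz : (z : G) ∈ ((A ⊔ B : Subgroup G) : Set G) := z.2
    rw [Subgroup.normal_mul] at hz
    obtain ⟨a, ha, b, hb, hab⟩ := Set.mem_mul.1 hz
    refine ⟨⟨b, hb⟩, ?_⟩
    apply Subtype.ext
    show (QuotientGroup.mk' A) b = (QuotientGroup.mk' A) (z : G)
    rw [← hab, map_mul]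
    have h1 : (QuotientGroup.mk' A) a = 1 := (QuotientGroup.eq_one_iff a).2 ha
    rw [h1, one_mul]
  haveI : Group.IsSolvable ↥g.range := Group.isSolvable_of_surjective hsurj
  refine Group.isSolvable_of_ker_le_range f g.rangeRestrict ?_
  intro z hz
  rw [MonoidHom.ker_rangeRestrict, MonoidHom.mem_ker] at hz
  have hzA : (z : G) ∈ A := (QuotientGroup.eq_one_iff _).1 hz
  exact ⟨⟨z, hzA⟩, Subtype.ext rfl⟩

/-- A finite join of normal solvable subgroups is solvable. -/
theorem kaz_iSup_solvable {G : Type*} [Group G] {ι : Type*} [Finite ι] (f : ι → Subgroup G)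
    (hn : ∀ i, (f i).Normal) (hs : ∀ i, Group.IsSolvable (f i)) :
    Group.IsSolvable ↥(⨆ i, f i) := by
  classical
  have := Fintype.ofFinite ι
  have key : ∀ s : Finset ι, (s.sup f).Normal ∧ Group.IsSolvable ↥(s.sup f) := by
    intro s
    induction s using Finset.induction_on with
    | empty =>
      rw [Finset.sup_empty]
      exact ⟨inferInstance, inferInstance⟩
    | insert a s ha ih =>
      rw [Finset.sup_insert]
      haveI := hn a
      haveI := ih.1
      exact ⟨inferInstance, kaz_sup_solvable _ _ (hs a) ih.2⟩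
  have h := (key Finset.univ).2
  rwa [Finset.sup_univ_eq_iSup] at h

/-- A positive number all of whose prime factors are `p` or `q` is `p ^ a * q ^ b`. -/
theorem kaz_card_two_primes {p q : ℕ} (hp : p.Prime) (hq : q.Prime) (n : ℕ) (hn : n ≠ 0)
    (h : ∀ r : ℕ, r.Prime → r ∣ n → r = p ∨ r = q) : ∃ a b : ℕ, n = p ^ a * q ^ b := by
  obtain ⟨a, m, hpm, rfl⟩ := Nat.exists_eq_pow_mul_and_not_dvd hn p hp.ne_one
  have hm0 : m ≠ 0 := by rintro rfl; exact hn (mul_zero _)
  obtain ⟨b, m', hqm', rfl⟩ := Nat.exists_eq_pow_mul_and_not_dvd hm0 q hq.ne_one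
  have hm1 : m' = 1 := by
    rw [Nat.eq_one_iff_not_exists_prime_dvd]
    intro r hr hrd
    rcases h r hr (Dvd.dvd.mul_left (Dvd.dvd.mul_left hrd _) _) with rfl | rfl
    · exact hpm (Dvd.dvd.mul_left hrd _)
    · exact hqm' hrd
  exact ⟨a, b, by rw [hm1, mul_one]⟩

/-- Kazarin's theorem for elements of prime-power order. -/
theorem kaz_primepow : ∀ (n : ℕ) (G : Type u) [Group G] [Finite G], Nat.card G = n →
    ∀ (x : G) (p q : ℕ), p.Prime → q.Prime →
    (∃ k, (Subgroup.centralizer ({x} : Set G)).index = p ^ k) →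
    (∃ m, orderOf x = q ^ m) → Group.IsSolvable ↥(Subgroup.normalClosure ({x} : Set G)) := by
  intro n
  induction n using Nat.strong_induction_on with
  | _ n ih =>
  intro G _ _ hcard x p q hp hq hk hm
  obtain ⟨k, hk⟩ := hk
  obtain ⟨m, hm⟩ := hm
  by_cases hex : ∃ r : ℕ, r.Prime ∧ r ∣ Nat.card G ∧ r ≠ p ∧ r ≠ q
  · obtain ⟨r, hr, hrG, hrp, hrq⟩ := hex
    have hrx : ¬ r ∣ orderOf x := by
      rw [hm]; intro h
      exact hrq ((Nat.prime_dvd_prime_iff_eq hr hq).1 (hr.dvd_of_dvd_pow h))
    obtain ⟨K, hKn, hKtop, hxK⟩ := kaz_kernel x hp hr hrp hrG k hk hrx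
    haveI := hKn
    have hKcard : Nat.card K < n := by
      rw [← hcard]
      exact lt_of_le_of_ne (Subgroup.card_le_card_group K)
        (fun h => hKtop ((Subgroup.card_eq_iff_eq_top K).1 h))
    have hconjK : ∀ g : G, g * x * g⁻¹ ∈ K := fun g => hKn.conj_mem x hxK g
    have hFs : ∀ g : G, Group.IsSolvable
        ↥(Subgroup.normalClosure ({(⟨g * x * g⁻¹, hconjK g⟩ : K)} : Set K)) := by
      intro g
      refine ih (Nat.card K) hKcard K rfl ⟨g * x * g⁻¹, hconjK g⟩ p q hp hq ?_ ?_
      · have hd := kaz_centralizer_index_dvd K ⟨g * x * g⁻¹, hconjK g⟩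
        have hconj : (Subgroup.centralizer ({g * x * g⁻¹} : Set G)).index = p ^ k := by
          rw [index_centralizer_eq_ncard]
          have h1 : ConjClasses.mk (g * x * g⁻¹) = ConjClasses.mk x :=
            (ConjClasses.mk_eq_mk_iff_isConj.2 (isConj_iff.2 ⟨g, rfl⟩)).symm
          rw [h1, ← index_centralizer_eq_ncard]; exact hk
        have hd' : (Subgroup.centralizer ({(⟨g * x * g⁻¹, hconjK g⟩ : K)} : Set K)).index
            ∣ p ^ k := hconj ▸ hd
        obtain ⟨j, -, hj⟩ := (Nat.dvd_prime_pow hp).1 hd'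
        exact ⟨j, hj⟩
      · refine ⟨m, ?_⟩
        rw [Subgroup.orderOf_mk, ← hm]
        have h1 := (MulAut.conj g).orderOf_eq x
        rw [MulAut.conj_apply] at h1
        exact h1
    have hT := kaz_iSup_solvable
      (fun g : G => Subgroup.normalClosure ({(⟨g * x * g⁻¹, hconjK g⟩ : K)} : Set K))
      (fun g => Subgroup.normalClosure_normal) hFs
    have hle : Subgroup.normalClosure ({x} : Set G) ≤
        (⨆ g : G, Subgroup.normalClosure ({(⟨g * x * g⁻¹, hconjK g⟩ : K)} : Set K)).map
          K.subtype := by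
      show Subgroup.closure (Group.conjugatesOfSet {x}) ≤ _
      rw [Subgroup.closure_le]
      intro z hz
      rw [Group.mem_conjugatesOfSet_iff] at hz
      obtain ⟨a, ha, hconj⟩ := hz
      rw [Set.mem_singleton_iff] at ha
      subst ha
      obtain ⟨g, rfl⟩ := isConj_iff.1 hconj
      refine ⟨⟨g * a * g⁻¹, hconjK g⟩, ?_, rfl⟩
      exact (le_iSup (fun g : G =>
        Subgroup.normalClosure ({(⟨g * a * g⁻¹, hconjK g⟩ : K)} : Set K)) g)
        (Subgroup.subset_normalClosure (Set.mem_singleton _))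
    haveI : Group.IsSolvable ↥((⨆ g : G,
        Subgroup.normalClosure ({(⟨g * x * g⁻¹, hconjK g⟩ : K)} : Set K)).map K.subtype) :=
      Group.isSolvable_of_surjective (MonoidHom.subgroupMap_surjective K.subtype _)
    exact Group.isSolvable_of_isSolvable_injective (Subgroup.inclusion_injective hle)
  · push Not at hex
    haveI : Group.IsSolvable G := by
      obtain ⟨a, b, hab⟩ := kaz_card_two_primes hp hq (Nat.card G) Nat.card_pos.ne'
        (fun r hr hrd => by
          by_cases h : r = p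
          · exact Or.inl h
          · exact Or.inr (hex r hr hrd h))
      exact Cfsg.Agent.S0144.result p q a b hp hq hab
    infer_instance

/-- Kazarin's theorem: if the conjugacy class of `x` has prime-power size then the normal
closure of `x` is solvable. -/
theorem kaz_general {G : Type u} [Group G] [Finite G] {p : ℕ} (hp : p.Prime) :
    ∀ (N : ℕ) (x : G), orderOf x = N →
      (∃ k, (Subgroup.centralizer ({x} : Set G)).index = p ^ k) →
      Group.IsSolvable ↥(Subgroup.normalClosure ({x} : Set G)) := by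
  intro N
  induction N using Nat.strong_induction_on with
  | _ N ih =>
  intro x hxN hk
  by_cases hpp : ∃ q m : ℕ, q.Prime ∧ N = q ^ m
  · obtain ⟨q, m, hq, hNq⟩ := hpp
    exact kaz_primepow (Nat.card G) G rfl x p q hp hq hk ⟨m, by rw [hxN, hNq]⟩
  · have hN1 : N ≠ 1 := fun h => hpp ⟨2, 0, Nat.prime_two, by rw [h, pow_zero]⟩
    have hNpos : 0 < N := hxN ▸ orderOf_pos x
    obtain ⟨q, hq, hqN⟩ : ∃ q : ℕ, q.Prime ∧ q ∣ N :=
      ⟨Nat.minFac N, Nat.minFac_prime hN1, Nat.minFac_dvd N⟩
    obtain ⟨e, m', hqm', hNe⟩ :=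
      Nat.exists_eq_pow_mul_and_not_dvd hNpos.ne' q hq.ne_one
    have he : e ≠ 0 := by
      rintro rfl
      rw [pow_zero, one_mul] at hNe
      exact hqm' (hNe ▸ hqN)
    have hm'1 : m' ≠ 1 := by
      rintro rfl
      exact hpp ⟨q, e, hq, by rw [mul_one] at hNe; exact hNe⟩
    have hm'0 : m' ≠ 0 := by
      rintro rfl
      rw [mul_zero] at hNe
      omega
    have hqe2 : 2 ≤ q ^ e := by
      calc 2 ≤ q := hq.two_le
        _ = q ^ 1 := (pow_one _).symm
        _ ≤ q ^ e := Nat.pow_le_pow_right hq.pos (Nat.one_le_iff_ne_zero.2 he)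
    have hqe0 : q ^ e ≠ 0 := by omega
    have hy : orderOf (x ^ (q ^ e)) = m' := by
      rw [orderOf_pow_of_dvd hqe0 (by rw [hxN]; exact ⟨m', hNe⟩), hxN, hNe]
      exact Nat.mul_div_cancel_left m' (by omega)
    have hz : orderOf (x ^ m') = q ^ e := by
      rw [orderOf_pow_of_dvd hm'0 (by rw [hxN]; exact ⟨q ^ e, by rw [hNe, mul_comm]⟩),
        hxN, hNe]
      exact Nat.mul_div_cancel (q ^ e) (by omega)
    have hylt : m' < N := by
      have h1 : 1 * m' < q ^ e * m' :=
        Nat.mul_lt_mul_of_pos_right (by omega) (by omega)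
      rw [one_mul] at h1
      rw [hNe]
      exact h1
    have hzlt : q ^ e < N := by
      have h1 : q ^ e * 1 < q ^ e * m' :=
        Nat.mul_lt_mul_of_pos_left (by omega) (by omega)
      rw [mul_one] at h1
      rw [hNe]
      exact h1
    obtain ⟨k, hk⟩ := hk
    have hcent : ∀ j : ℕ, ∃ k', (Subgroup.centralizer ({x ^ j} : Set G)).index = p ^ k' := by
      intro j
      have hle : Subgroup.centralizer ({x} : Set G) ≤ Subgroup.centralizer ({x ^ j} : Set G) := by
        intro z hz
        rw [Subgroup.mem_centralizer_singleton_iff] at hz ⊢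
        exact (Commute.pow_right (show Commute z x from hz) j).eq
      have hd := Subgroup.index_dvd_of_le hle
      rw [hk] at hd
      obtain ⟨j', -, hj'⟩ := (Nat.dvd_prime_pow hp).1 hd
      exact ⟨j', hj'⟩
    have hys := ih m' hylt (x ^ (q ^ e)) hy (hcent _)
    have hzs := ih (q ^ e) hzlt (x ^ m') hz (hcent _)
    have hcop : Nat.Coprime (q ^ e) m' :=
      Nat.Coprime.pow_left e ((Nat.Prime.coprime_iff_not_dvd hq).2 hqm')
    have hxmem : x ∈ Subgroup.normalClosure ({x ^ (q ^ e)} : Set G) ⊔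
        Subgroup.normalClosure ({x ^ m'} : Set G) := by
      have hb := Nat.gcd_eq_gcd_ab (q ^ e) m'
      rw [hcop.gcd_eq_one] at hb
      have h1 : x = (x ^ (q ^ e)) ^ (Nat.gcdA (q ^ e) m') *
          (x ^ m') ^ (Nat.gcdB (q ^ e) m') := by
        rw [← zpow_natCast x (q ^ e), ← zpow_natCast x m', ← zpow_mul, ← zpow_mul,
          ← zpow_add, ← hb]
        simp
      have h2 := Subgroup.mul_mem_sup
        (S := Subgroup.normalClosure ({x ^ (q ^ e)} : Set G))
        (T := Subgroup.normalClosure ({x ^ m'} : Set G))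
        (Subgroup.zpow_mem _ (Subgroup.subset_normalClosure (Set.mem_singleton _))
          (Nat.gcdA (q ^ e) m'))
        (Subgroup.zpow_mem _ (Subgroup.subset_normalClosure (Set.mem_singleton _))
          (Nat.gcdB (q ^ e) m'))
      rw [← h1] at h2
      exact h2
    have hle : Subgroup.normalClosure ({x} : Set G) ≤
        Subgroup.normalClosure ({x ^ (q ^ e)} : Set G) ⊔
          Subgroup.normalClosure ({x ^ m'} : Set G) :=
      Subgroup.normalClosure_le_normal (Set.singleton_subset_iff.2 hxmem)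
    haveI := kaz_sup_solvable (Subgroup.normalClosure ({x ^ (q ^ e)} : Set G))
      (Subgroup.normalClosure ({x ^ m'} : Set G)) hys hzs
    exact Group.isSolvable_of_isSolvable_injective (Subgroup.inclusion_injective hle)

end Cfsg.Agent.Helper21
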