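import Mathlib
import Cfsg.Agent.Lead.NilBound
import Cfsg.Agent.Lead.NilNum
import Cfsg.Agent.Helper21.NilAlt

set_option autoImplicit false

namespace Cfsg.Agent.Helper21

open Nat in
theorem nb21_T_odd_add (x y : ℕ) (hx : Odd x) (hy : Odd y) :
    (x)!.factorization 2 + (y)!.factorization 2 + 1 ≤ (x + y)!.factorization 2 := by
  obtain ⟨i, rfl⟩ := hx
  obtain ⟨j, rfl⟩ := hy
  rw [nb21_T_odd, nb21_T_odd]
  have h1 := nb21_T_add (2 * i) (2 * j)
  have h2 := nb21_T_add_two (2 * i + 2 * j)
  have h3 : 2 * i + 1 + (2 * j + 1) = 2 * i + 2 * j + 2 := by ring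
  rw [h3]
  omega

open Nat in
theorem nb21_T_odd_add3 (x : ℕ) (hx : Odd x) :
    (x)!.factorization 2 + 3 ≤ (x + 3)!.factorization 2 := by
  obtain ⟨i, rfl⟩ := hx
  rw [nb21_T_odd]
  have h := Lead.nn_v4 (2 * i)
  have h3 : 2 * i + 1 + 3 = 2 * i + 4 := by ring
  rw [h3]
  exact h

open Nat in
theorem nb21_all3 (b : ℕ) (hb : 4 ≤ b) : 2 * 3 ^ b ≤ 2 ^ ((3 * b)!.factorization 2) := by
  have hT : 2 * b + 1 ≤ (3 * b)!.factorization 2 := by
    have h1 := nb21_T_add (2 * b) b
    rw [nb21_T_two_mul] at h1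
    have h3 : 2 * b + b = 3 * b := by ring
    rw [h3] at h1
    have h2 : b ≤ 2 * (b)!.factorization 2 - 1 := by
      obtain ⟨j, r, hr, rfl⟩ : ∃ j r, r < 2 ∧ b = 2 * j + r :=
        ⟨b / 2, b % 2, Nat.mod_lt _ (by norm_num), (Nat.div_add_mod b 2).symm⟩
      have hj : 2 ≤ j := by omega
      have hp := nb21_T_pos j hj
      interval_cases r
      · simp only [add_zero]
        rw [nb21_T_two_mul]
        omega
      · rw [nb21_T_odd, nb21_T_two_mul]
        omega
    omega
  have h4 : (4 : ℕ) ^ b = 2 ^ (2 * b) := by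
    rw [pow_mul]; norm_num
  calc 2 * 3 ^ b ≤ 2 * 4 ^ b := Nat.mul_le_mul_left 2 (Nat.pow_le_pow_left (by norm_num) b)
    _ = 2 ^ (2 * b + 1) := by rw [h4, pow_succ]; ring
    _ ≤ 2 ^ ((3 * b)!.factorization 2) := Nat.pow_le_pow_right (by norm_num) hT

theorem nil_prod_odd_le (c : ℕ → ℕ)
    (hc : ∀ m, 0 < m → m ≠ 3 → c m ≤ 2 ^ (m.factorial.factorization 2)) (hc3 : c 3 = 3)
    (hc2 : ∀ m, Odd m → m ≠ 1 → m ≠ 3 → m ≠ 5 → m ≠ 9 →
      2 * c m ≤ 2 ^ (m.factorial.factorization 2))
    (l : Multiset ℕ) (hodd : ∀ m ∈ l, Odd m) (h : l.sum % 4 ≠ 3) (h5 : l.sum ≠ 5)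
    (h6 : l.sum ≠ 6) (h9 : l.sum ≠ 9) (h2 : 2 ≤ l.sum) :
    2 * (l.map c).prod ≤ 2 ^ (l.sum.factorial.factorization 2) := by
  by_cases hex : ∃ x ∈ l, x ≠ 3
  · obtain ⟨x, hx, hx3⟩ := hex
    obtain ⟨l₁, rfl⟩ := Multiset.exists_cons_of_mem hx
    have hxo : Odd x := hodd x (Multiset.mem_cons_self x l₁)
    by_cases hl₁ : l₁ = 0
    · subst hl₁
      simp only [Multiset.cons_zero, Multiset.sum_singleton, Multiset.map_singleton,
        Multiset.prod_singleton] at h h5 h6 h9 h2 ⊢
      exact hc2 x hxo (by omega) hx3 h5 h9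
    · obtain ⟨y, hy⟩ := Multiset.exists_mem_of_ne_zero hl₁
      obtain ⟨rest, rfl⟩ := Multiset.exists_cons_of_mem hy
      have hyo : Odd y := hodd y (by simp)
      have hrest : ∀ m ∈ rest, Odd m := fun m hm => hodd m (by simp [hm])
      have hxpos : 0 < x := by
        obtain ⟨i, rfl⟩ := hxo; omega
      have hypos : 0 < y := by
        obtain ⟨i, rfl⟩ := hyo; omega
      have hK : 2 * c x * c y ≤ 2 ^ ((x + y).factorial.factorization 2) := by
        have hcx := hc x hxpos hx3
        by_cases hy3 : y = 3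
        · subst hy3
          rw [hc3]
          calc 2 * c x * 3 ≤ 8 * c x := by omega
            _ ≤ 8 * 2 ^ (x.factorial.factorization 2) := Nat.mul_le_mul_left 8 hcx
            _ = 2 ^ (x.factorial.factorization 2 + 3) := by rw [pow_add]; ring
            _ ≤ 2 ^ ((x + 3).factorial.factorization 2) :=
                Nat.pow_le_pow_right (by norm_num) (nb21_T_odd_add3 x hxo)
        · have hcy := hc y hypos hy3
          calc 2 * c x * c y
              ≤ 2 * 2 ^ (x.factorial.factorization 2) * 2 ^ (y.factorial.factorization 2) :=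
                Nat.mul_le_mul (Nat.mul_le_mul_left 2 hcx) hcy
            _ = 2 ^ (x.factorial.factorization 2 + y.factorial.factorization 2 + 1) := by
                rw [pow_succ, pow_add]; ring
            _ ≤ 2 ^ ((x + y).factorial.factorization 2) :=
                Nat.pow_le_pow_right (by norm_num) (nb21_T_odd_add x y hxo hyo)
      have hxy_even : ∀ m, Odd m → m ≠ x + y := by
        intro m hm heq
        obtain ⟨i, hi⟩ := hxo
        obtain ⟨j, hj⟩ := hyo
        obtain ⟨k, hk⟩ := hm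
        omega
      obtain ⟨c', hc'def⟩ : ∃ c' : ℕ → ℕ,
          ∀ m, c' m = if m = x + y then 2 * c x * c y else c m :=
        ⟨fun m => if m = x + y then 2 * c x * c y else c m, fun m => rfl⟩
      have hc'xy : c' (x + y) = 2 * c x * c y := by rw [hc'def, if_pos rfl]
      have hc'ne : ∀ m, m ≠ x + y → c' m = c m := fun m hm => by rw [hc'def, if_neg hm]
      have hc' : ∀ m, 0 < m → m ≠ 3 → c' m ≤ 2 ^ (m.factorial.factorization 2) := by
        intro m hm hm3
        by_cases hmxy : m = x + y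
        · subst hmxy
          rw [hc'xy]
          exact hK
        · rw [hc'ne m hmxy]
          exact hc m hm hm3
      have hc3' : c' 3 = 3 := by
        rw [hc'ne 3 (hxy_even 3 (by decide)), hc3]
      have hpos' : ∀ m ∈ (x + y) ::ₘ rest, 0 < m := by
        intro m hm
        rcases Multiset.mem_cons.1 hm with rfl | hm
        · omega
        · obtain ⟨i, rfl⟩ := hrest m hm
          omega
      have hsum' : ((x + y) ::ₘ rest).sum = (x ::ₘ y ::ₘ rest).sum := by
        simp [add_assoc]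
      have hmain := Lead.nil_prod_le_of c' hc' hc3' ((x + y) ::ₘ rest) hpos'
        (by rw [hsum']; exact h)
      rw [hsum'] at hmain
      have hmap : rest.map c' = rest.map c :=
        Multiset.map_congr rfl (fun m hm => hc'ne m (hxy_even m (hrest m hm)))
      have hprod : (((x + y) ::ₘ rest).map c').prod = 2 * ((x ::ₘ y ::ₘ rest).map c).prod := by
        rw [Multiset.map_cons, Multiset.prod_cons, hmap, Multiset.map_cons, Multiset.map_cons,
          Multiset.prod_cons, Multiset.prod_cons, hc'xy]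
        ring
      rw [hprod] at hmain
      exact hmain
  · push_neg at hex
    obtain ⟨b, rfl⟩ : ∃ b, l = Multiset.replicate b 3 :=
      ⟨Multiset.card l, Multiset.eq_replicate.2 ⟨rfl, hex⟩⟩
    simp only [Multiset.sum_replicate, smul_eq_mul, Multiset.map_replicate,
      Multiset.prod_replicate, hc3] at h h5 h6 h9 h2 ⊢
    have hb4 : 4 ≤ b := by omega
    have h3 := nb21_all3 b hb4
    rwa [mul_comm 3 b] at h3

end Cfsg.Agent.Helper21
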