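import Mathlib
import Cfsg.Agent.Helper21.NilAlt
import Cfsg.Agent.Helper21.NilAltThree

set_option autoImplicit false

namespace Cfsg.Agent.Helper21

theorem alt_nil_three_conj (n : ℕ) (h7 : 7 ≤ n) (z₁ z₂ : alternatingGroup (Fin n))
    (T₁ T₂ : Subgroup (alternatingGroup (Fin n)))
    (hz₁ : (z₁ : Equiv.Perm (Fin n)).cycleType = {3})
    (hz₂ : (z₂ : Equiv.Perm (Fin n)).cycleType = {3})
    (hT₁ : Nat.card T₁ = 2 ^ ((n - 3).factorial.factorization 2 - 1))
    (hT₂ : Nat.card T₂ = 2 ^ ((n - 3).factorial.factorization 2 - 1))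
    (h₁ : ∀ t ∈ T₁, t * z₁ = z₁ * t) (h₂ : ∀ t ∈ T₂, t * z₂ = z₂ * t) :
    ∃ g : alternatingGroup (Fin n),
      (T₂ ⊔ Subgroup.zpowers z₂) =
        (T₁ ⊔ Subgroup.zpowers z₁).map (MulAut.conj g).toMonoidHom := by
  have hinj : Function.Injective (alternatingGroup (Fin n)).subtype :=
    Subgroup.subtype_injective _
  have hv : 1 ≤ (n - 3).factorial.factorization 2 := nb21_T_pos (n - 3) (by omega)
  have hpow : 2 * 2 ^ ((n - 3).factorial.factorization 2 - 1) =
      2 ^ ((n - 3).factorial.factorization 2) := by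
    obtain ⟨k, hk⟩ : ∃ k, (n - 3).factorial.factorization 2 = k + 1 := ⟨_, (Nat.sub_add_cancel hv).symm⟩
    rw [hk, Nat.add_sub_cancel, pow_succ]
    ring
  have hc₁ : 2 * Nat.card (T₁.map (alternatingGroup (Fin n)).subtype) =
      2 ^ ((n - 3).factorial.factorization 2) := by
    rw [Subgroup.card_map_of_injective hinj, hT₁, hpow]
  have hc₂ : 2 * Nat.card (T₂.map (alternatingGroup (Fin n)).subtype) =
      2 ^ ((n - 3).factorial.factorization 2) := by
    rw [Subgroup.card_map_of_injective hinj, hT₂, hpow]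
  have hA : ∀ T : Subgroup (alternatingGroup (Fin n)),
      T.map (alternatingGroup (Fin n)).subtype ≤ alternatingGroup (Fin n) := by
    intro T x hx
    obtain ⟨t, _, rfl⟩ := Subgroup.mem_map.1 hx
    exact t.2
  have hcomm : ∀ (T : Subgroup (alternatingGroup (Fin n))) (z : alternatingGroup (Fin n)),
      (∀ t ∈ T, t * z = z * t) →
      ∀ t ∈ T.map (alternatingGroup (Fin n)).subtype,
        t * (z : Equiv.Perm (Fin n)) = (z : Equiv.Perm (Fin n)) * t := by
    intro T z h t ht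
    obtain ⟨t₀, ht₀, rfl⟩ := Subgroup.mem_map.1 ht
    have := congrArg Subtype.val (h t₀ ht₀)
    simpa using this
  obtain ⟨g, hsign, hg⟩ := alt3_conj n h7 (z₁ : Equiv.Perm (Fin n)) (z₂ : Equiv.Perm (Fin n))
    (T₁.map (alternatingGroup (Fin n)).subtype) (T₂.map (alternatingGroup (Fin n)).subtype)
    hz₁ hz₂ hc₁ hc₂ (hA T₁) (hA T₂) (hcomm T₁ z₁ h₁) (hcomm T₂ z₂ h₂)
  refine ⟨⟨g, Equiv.Perm.mem_alternatingGroup.2 hsign⟩, ?_⟩
  apply Subgroup.map_injective hinj
  have hhom : (alternatingGroup (Fin n)).subtype.comp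
      (MulAut.conj (⟨g, Equiv.Perm.mem_alternatingGroup.2 hsign⟩ :
        alternatingGroup (Fin n))).toMonoidHom =
      (MulAut.conj g).toMonoidHom.comp (alternatingGroup (Fin n)).subtype := by
    ext x
    simp
  rw [Subgroup.map_map, hhom, ← Subgroup.map_map, Subgroup.map_sup, Subgroup.map_sup,
    MonoidHom.map_zpowers, MonoidHom.map_zpowers]
  exact hg

end Cfsg.Agent.Helper21
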