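import Mathlib

set_option autoImplicit false

namespace Cfsg.Agent.Helper21

/-- Two finite groups with the same order type admit an order-preserving bijection. -/
theorem exists_orderOf_bij {G H : Type*} [Group G] [Finite G] [Group H] [Finite H]
    (hT : ∀ m : ℕ, Nat.card {g : G // orderOf g = m} = Nat.card {h : H // orderOf h = m}) :
    ∃ f : G ≃ H, ∀ g, orderOf (f g) = orderOf g := by
  have hE : ∀ m : ℕ, Nonempty ({g : G // orderOf g = m} ≃ {h : H // orderOf h = m}) :=
    fun m => Finite.card_eq.mp (hT m)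
  obtain ⟨e⟩ : Nonempty (∀ m : ℕ, {g : G // orderOf g = m} ≃ {h : H // orderOf h = m}) :=
    ⟨fun m => Classical.choice (hE m)⟩
  have aux1 : ∀ m (g : G) (hm : orderOf g = m),
      (e (orderOf g) ⟨g, rfl⟩).1 = (e m ⟨g, hm⟩).1 := by
    intro m g hm; subst hm; rfl
  have aux2 : ∀ m (h : H) (hm : orderOf h = m),
      ((e (orderOf h)).symm ⟨h, rfl⟩).1 = ((e m).symm ⟨h, hm⟩).1 := by
    intro m h hm; subst hm; rfl
  refine ⟨⟨fun g => (e (orderOf g) ⟨g, rfl⟩).1, fun h => ((e (orderOf h)).symm ⟨h, rfl⟩).1,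
    ?_, ?_⟩, fun g => (e (orderOf g) ⟨g, rfl⟩).2⟩
  · intro g
    show ((e (orderOf (e (orderOf g) ⟨g, rfl⟩).1)).symm ⟨(e (orderOf g) ⟨g, rfl⟩).1, rfl⟩).1 = g
    refine (aux2 (orderOf g) _ (e (orderOf g) ⟨g, rfl⟩).2).trans ?_
    exact congrArg Subtype.val (Equiv.symm_apply_apply (e (orderOf g)) ⟨g, rfl⟩)
  · intro h
    show (e (orderOf ((e (orderOf h)).symm ⟨h, rfl⟩).1)
      ⟨((e (orderOf h)).symm ⟨h, rfl⟩).1, rfl⟩).1 = h
    refine (aux1 (orderOf h) _ ((e (orderOf h)).symm ⟨h, rfl⟩).2).trans ?_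
    exact congrArg Subtype.val (Equiv.apply_symm_apply (e (orderOf h)) ⟨h, rfl⟩)

/-- Same order type: the number of elements whose order satisfies a predicate agrees. -/
theorem ncard_orderOf_pred_eq {G H : Type*} [Group G] [Finite G] [Group H] [Finite H]
    (hT : ∀ m : ℕ, Nat.card {g : G // orderOf g = m} = Nat.card {h : H // orderOf h = m})
    (q : ℕ → Prop) :
    {g : G | q (orderOf g)}.ncard = {h : H | q (orderOf h)}.ncard := by
  obtain ⟨f, hf⟩ := exists_orderOf_bij hT
  have himg : f '' {g : G | q (orderOf g)} = {h : H | q (orderOf h)} := by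
    ext h
    constructor
    · rintro ⟨g, hg, rfl⟩
      show q (orderOf (f g))
      rw [hf]; exact hg
    · intro hh
      refine ⟨f.symm h, ?_, f.apply_symm_apply h⟩
      show q (orderOf (f.symm h))
      rw [← hf, f.apply_symm_apply]; exact hh
  rw [← himg, Set.ncard_image_of_injective _ f.injective]

/-- Same order type implies same order. -/
theorem card_eq_of_orderType {G H : Type*} [Group G] [Finite G] [Group H] [Finite H]
    (hT : ∀ m : ℕ, Nat.card {g : G // orderOf g = m} = Nat.card {h : H // orderOf h = m}) :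
    Nat.card G = Nat.card H := by
  obtain ⟨f, -⟩ := exists_orderOf_bij hT
  exact Nat.card_congr f

/-- Elements of a Sylow `p`-subgroup have `p`-power order. -/
theorem exists_orderOf_eq_pow_of_mem_sylow {G : Type*} [Group G] {p : ℕ} [hp : Fact p.Prime]
    (P : Sylow p G) {g : G} (hg : g ∈ (P : Subgroup G)) : ∃ j, orderOf g = p ^ j := by
  obtain ⟨k, hk⟩ := P.isPGroup' ⟨g, hg⟩
  have hgk : g ^ p ^ k = 1 := by
    have h := congrArg Subtype.val hk
    simpa using h
  obtain ⟨j, -, hj⟩ := (Nat.dvd_prime_pow hp.out).mp (orderOf_dvd_of_pow_eq_one hgk)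
  exact ⟨j, hj⟩

/-- An element of `p`-power order lies in some Sylow `p`-subgroup. -/
theorem exists_sylow_mem_of_orderOf_eq_pow {G : Type*} [Group G] {p : ℕ} [Fact p.Prime]
    {g : G} {k : ℕ} (hk : orderOf g = p ^ k) : ∃ P : Sylow p G, g ∈ (P : Subgroup G) := by
  have hz : IsPGroup p ↥(Subgroup.zpowers g) :=
    IsPGroup.of_card (by rw [Nat.card_zpowers, hk])
  obtain ⟨P, hP⟩ := hz.exists_le_sylow
  exact ⟨P, hP (Subgroup.mem_zpowers g)⟩

/-- In a finite group with a normal Sylow `p`-subgroup `P`, the elements of `p`-power order are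
exactly the elements of `P`. -/
theorem normal_sylow_coe_eq {G : Type*} [Group G] [Finite G] {p : ℕ} [Fact p.Prime]
    (P : Sylow p G) [hn : (P : Subgroup G).Normal] :
    ((P : Subgroup G) : Set G) = {g : G | ∃ k, orderOf g = p ^ k} := by
  ext g
  constructor
  · intro hg
    exact exists_orderOf_eq_pow_of_mem_sylow P hg
  · rintro ⟨k, hk⟩
    obtain ⟨P', hP'⟩ := exists_sylow_mem_of_orderOf_eq_pow hk
    obtain ⟨x, rfl⟩ := MulAction.exists_smul_eq G P P'
    rw [Sylow.smul_eq_of_normal] at hP'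
    exact hP'

end Cfsg.Agent.Helper21
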